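import Groth.Agent.TorsPatch28.Bridge
import Groth.Agent.TorsNorm28.Restrict

/-!
# Descents to the base versus contractions
-/

universe u

open CategoryTheory Limits AlgebraicGeometry MonoidalCategory CartesianMonoidalCategory MonObj

noncomputable section

set_option linter.style.haveILetI false
set_option backward.isDefEq.respectTransparency false

namespace Groth.Agent.TorsPatch28

open Groth.Agent.QuillenLib Groth.Agent.TorsNorm28

variable {R : Type u} [CommRing R] {G : Over (Spec (CommRingCat.of R))} [GrpObj G]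
  {B C : Scheme.{u}} (f : B ⟶ C) (h : C ⟶ Spec (CommRingCat.of R)) {d : B ⟶ Spec (CommRingCat.of R)} (hd : f ≫ h = d)
  {K : Precoverage Scheme.{u}}

/-- The base-changed torsor with the group identified with the base change along the composite. -/
abbrev bcAct (X : NonAbH1.TorsorSch (Red.bc h G) K) : AlgGrp.Action (Red.bc d G) (Red.bc f X.X) :=
  (X.act.bc f).restrict (ActBC.bcCompIso f h G hd).inv

theorem bcAct_spec (X : NonAbH1.TorsorSch (Red.bc h G) K) {W : Over (Spec (CommRingCat.of R))} (g : W ⟶ G)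
    (x : W ⟶ totalSpace h X) {T : Over B} (k : (Over.map d).obj T ⟶ W) (z : T ⟶ Red.bc f X.X)
    (hz : z.left ≫ pullback.fst X.X.hom f = k.left ≫ x.left) :
    (lift (pointEquiv d G T (k ≫ g)) z ≫ (bcAct f h hd X).act).left ≫ pullback.fst X.X.hom f =
      k.left ≫ (op h X g x).left := by
  let he := fun (Y : Over C) => (Over.mapPullbackAdj f).homEquiv T Y
  have hleft : ∀ {Y : Over C} (m : T ⟶ (Over.pullback f).obj Y),
      ((he Y).symm m).left = m.left ≫ pullback.fst Y.hom f := fun {Y} m => by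
    rw [Adjunction.homEquiv_counit]
    simp
  let k' : (Over.map h).obj ((Over.map f).obj T) ⟶ W := Over.homMk k.left (by
    show k.left ≫ W.hom = (T.hom ≫ f) ≫ h
    rw [Category.assoc, hd]; exact Over.w k)
  let gC := pointEquiv h G ((Over.map f).obj T) (k' ≫ g)
  let zC : (Over.map f).obj T ⟶ X.X := (he X.X).symm z
  have hgl : ∀ {S' : Scheme.{u}} (p : S' ⟶ Spec (CommRingCat.of R)) {T' : Over S'} (γ : (Over.map p).obj T' ⟶ G),
      (pointEquiv p G T' γ).left ≫ pullback.fst G.hom p = γ.left := fun {S'} p {T'} γ => by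
    rw [← pointEquiv_symm_left, MulEquiv.symm_apply_apply]
  have e1 : pointEquiv d G T (k ≫ g) ≫ (ActBC.bcCompIso f h G hd).inv = he (Red.bc h G) gC := by
    rw [← cancel_mono (ActBC.bcCompIso f h G hd).hom, Category.assoc, Iso.inv_hom_id, Category.comp_id]
    refine Over.OverMorphism.ext (pullback.hom_ext ?_ ((Over.w _).trans (Over.w _).symm))
    rw [hgl d]
    simp only [Over.comp_left, Category.assoc, ActBC.bcCompIso_hom_left_fst]
    rw [← Category.assoc, ← hleft, Equiv.symm_apply_apply]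
    exact (hgl h (k' ≫ g)).symm
  have e2 : z = he X.X zC := ((he X.X).apply_symm_apply z).symm
  rw [AlgGrp.Action.lift_restrict_act, e1, e2]
  erw [AlgGrp.Action.lift_homEquiv_bc_act f X.act gC zC]
  rw [← hleft]
  erw [Equiv.symm_apply_apply]
  exact (op_spec h X g x k' zC ((hleft z).trans hz)).symm

section Transfer

variable {C' : Scheme.{u}} {f' : B ⟶ C'} {h' : C' ⟶ Spec (CommRingCat.of R)} {hd' : f' ≫ h' = d}
  {X : NonAbH1.TorsorSch (Red.bc h G) K} {X' : NonAbH1.TorsorSch (Red.bc h' G) K}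
  (ε : NonAbH1.EquivIso (bcAct f h hd X) (bcAct f' h' hd' X'))

variable {W : Over (Spec (CommRingCat.of R))}

/-- The object over the fibre product. -/
abbrev bObj (b : W ⟶ Over.mk d) : Over B := Over.mk b.left

/-- The lift of a point. -/
abbrev liftPt (x : W ⟶ totalSpace h X) (b : W ⟶ Over.mk d) (hb : x.left ≫ X.X.hom = b.left ≫ f) :
    bObj b ⟶ Red.bc f X.X :=
  Over.homMk (pullback.lift x.left b.left hb) (pullback.lift_snd _ _ _)

/-- Transfer of a point. -/
def trPt (x : W ⟶ totalSpace h X) (b : W ⟶ Over.mk d) (hb : x.left ≫ X.X.hom = b.left ≫ f) :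
    W ⟶ totalSpace h' X' :=
  Over.homMk ((liftPt f h x b hb ≫ ε.iso.hom).left ≫ pullback.fst X'.X.hom f') (by
    have h1 := Over.w (liftPt f h x b hb ≫ ε.iso.hom)
    show (_ ≫ pullback.fst X'.X.hom f') ≫ X'.X.hom ≫ h' = W.hom
    rw [Category.assoc, pullback.condition_assoc, ← Category.assoc, hd']
    refine (congrArg (· ≫ d) h1).trans ?_
    exact Over.w b)

theorem trPt_left_hom (x : W ⟶ totalSpace h X) (b : W ⟶ Over.mk d) (hb : x.left ≫ X.X.hom = b.left ≫ f) :
    (trPt f h hd ε x b hb).left ≫ X'.X.hom = b.left ≫ f' := by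
  show ((liftPt f h x b hb ≫ ε.iso.hom).left ≫ pullback.fst X'.X.hom f') ≫ X'.X.hom = _
  rw [Category.assoc, pullback.condition, ← Category.assoc]
  exact congrArg (· ≫ f') (Over.w (liftPt f h x b hb ≫ ε.iso.hom))

theorem trPt_congr {x x' : W ⟶ totalSpace h X} (e : x = x') {b : W ⟶ Over.mk d}
    (hb : x.left ≫ X.X.hom = b.left ≫ f) (hb' : x'.left ≫ X.X.hom = b.left ≫ f) :
    trPt f h hd ε x b hb = trPt f h hd ε x' b hb' := by
  subst e; rfl

theorem comp_trPt {W' : Over (Spec (CommRingCat.of R))} (k : W' ⟶ W) (x : W ⟶ totalSpace h X) (b : W ⟶ Over.mk d)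
    (hb : x.left ≫ X.X.hom = b.left ≫ f) :
    k ≫ trPt f h hd ε x b hb = trPt f h hd ε (k ≫ x) (k ≫ b) (by simp [hb]) := by
  refine Over.OverMorphism.ext ?_
  show k.left ≫ (_ ≫ _) = (_ ≫ _)
  rw [← Category.assoc]
  congr 1
  simp only [Over.comp_left, ← Category.assoc]
  congr 1
  refine pullback.hom_ext ?_ ?_
  · rw [Category.assoc]
    erw [pullback.lift_fst, pullback.lift_fst]
    rfl
  · rw [Category.assoc]
    erw [pullback.lift_snd, pullback.lift_snd]
    rfl

theorem trPt_op (g : W ⟶ G) (x : W ⟶ totalSpace h X) (b : W ⟶ Over.mk d)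
    (hb : x.left ≫ X.X.hom = b.left ≫ f) :
    trPt f h hd ε (op h X g x) b (by rw [op_left_hom]; exact hb) = op h' X' g (trPt f h hd ε x b hb) := by
  let k : (Over.map d).obj (bObj b) ⟶ W := Over.homMk (𝟙 W.left) (by
    show 𝟙 W.left ≫ W.hom = b.left ≫ d
    rw [Category.id_comp]; exact (Over.w b).symm)
  let z := liftPt f h x b hb
  let γ := pointEquiv d G (bObj b) (k ≫ g)
  have hact : lift γ z ≫ (bcAct f h hd X).act = liftPt f h (op h X g x) b (by rw [op_left_hom]; exact hb) := by
    refine Over.OverMorphism.ext (pullback.hom_ext ?_ ?_)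
    · rw [bcAct_spec f h hd X g x k z ((pullback.lift_fst _ _ _).trans (Category.id_comp _).symm)]
      exact (Category.id_comp _).trans (pullback.lift_fst _ _ _).symm
    · exact (Over.w _).trans (pullback.lift_snd _ _ _).symm
  refine Over.OverMorphism.ext ?_
  show (liftPt f h (op h X g x) b _ ≫ ε.iso.hom).left ≫ pullback.fst X'.X.hom f' = _
  rw [← hact, Category.assoc, ε.comm, lift_whiskerLeft_assoc,
    bcAct_spec f' h' hd' X' g (trPt f h hd ε x b hb) k (z ≫ ε.iso.hom) (by simp [trPt, z, k])]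
  exact Category.id_comp _

end Transfer

section Global

variable {n : Type u} {A : Scheme.{u}} (q : A ⟶ Spec (CommRingCat.of R))
  (e : A ≅ (AffN R n).left) (he : e.hom ≫ (AffN R n).hom = q)
  (X : NonAbH1.TorsorSch (Red.bc q G) Scheme.fppfPrecoverage)

include he in
theorem zPt_comp_hom (W : Over (Spec (CommRingCat.of R))) :
    ((zPt R n W).left ≫ e.inv) ≫ q = W.hom := by
  simp only [← he, Category.assoc, Iso.inv_hom_id_assoc]
  exact Over.w (zPt R n W)

include he in
theorem desc_of_equivIso {Z : Scheme.{u}} {j : Z ⟶ Spec (CommRingCat.of R)}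
    (P : NonAbH1.TorsorSch (Red.bc j G) Scheme.fppfPrecoverage)
    (ε : NonAbH1.EquivIso (bcAct (pullback.snd q j) j rfl P) (bcAct (pullback.fst q j) q pullback.condition X))
    {L : Type u} [CommRing L] [Algebra R L] (t₀ : O R L ⟶ Over.mk j) : Nonempty (Fam (mkData q e he X) L) := by
  let D := mkData q e he X
  let εi : NonAbH1.EquivIso (bcAct (pullback.fst q j) q pullback.condition X) (bcAct (pullback.snd q j) j rfl P) :=
    ⟨ε.iso.symm, by
      rw [Iso.symm_hom, ← cancel_mono ε.iso.hom, Category.assoc, Iso.inv_hom_id, Category.comp_id,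
        Category.assoc, ε.comm, whiskerLeft_inv_hom_assoc]⟩
  let bA : ∀ {W : Over (Spec (CommRingCat.of R))} (t : W ⟶ O R L) (x : W ⟶ totalSpace q X),
      W ⟶ Over.mk (pullback.snd q j ≫ j) := fun {W} t x =>
    Over.homMk (pullback.lift (x.left ≫ X.X.hom) (t ≫ t₀).left
      (by rw [Category.assoc]; exact (Over.w x).trans (Over.w (t ≫ t₀)).symm)) (by
      show pullback.lift _ _ _ ≫ pullback.snd q j ≫ j = W.hom
      rw [pullback.lift_snd_assoc]; exact Over.w (t ≫ t₀))
  let b0 : ∀ {W : Over (Spec (CommRingCat.of R))} (t : W ⟶ O R L),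
      W ⟶ Over.mk (pullback.snd q j ≫ j) := fun {W} t =>
    Over.homMk (pullback.lift ((zPt R n W).left ≫ e.inv) (t ≫ t₀).left
      (by rw [zPt_comp_hom q e he]; exact (Over.w (t ≫ t₀)).symm)) (by
      show pullback.lift _ _ _ ≫ pullback.snd q j ≫ j = W.hom
      rw [pullback.lift_snd_assoc]; exact Over.w (t ≫ t₀))
  let pp : ∀ {W : Over (Spec (CommRingCat.of R))} (t : W ⟶ O R L) (x : W ⟶ totalSpace q X), W ⟶ totalSpace j P :=
    fun {W} t x => trPt _ _ _ εi x (bA t x) (by simp [bA])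
  have hpp : ∀ {W : Over (Spec (CommRingCat.of R))} (t : W ⟶ O R L) (x : W ⟶ totalSpace q X),
      (pp t x).left ≫ P.X.hom = (b0 t).left ≫ pullback.snd q j := fun {W} t x => by
    rw [trPt_left_hom]; simp [bA, b0]
  let ff : ∀ {W : Over (Spec (CommRingCat.of R))} (t : W ⟶ O R L) (x : W ⟶ totalSpace q X), W ⟶ totalSpace q X :=
    fun {W} t x => trPt _ _ _ ε (pp t x) (b0 t) (hpp t x)
  have hcomp : ∀ {W W' : Over (Spec (CommRingCat.of R))} (k : W' ⟶ W) (t : W ⟶ O R L) (x : W ⟶ totalSpace q X),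
      k ≫ ff t x = ff (k ≫ t) (k ≫ x) := fun {W W'} k t x => by
    have ea : k ≫ bA t x = bA (k ≫ t) (k ≫ x) := by
      refine Over.OverMorphism.ext (pullback.hom_ext ?_ ?_) <;> simp [bA]
    have e0 : k ≫ b0 t = b0 (k ≫ t) := by
      refine Over.OverMorphism.ext (pullback.hom_ext ?_ ?_)
      · simp only [b0, Over.comp_left, Over.homMk_left, Category.assoc, pullback.lift_fst]
        rw [← Category.assoc, ← comp_zPt n k]
        rfl
      · simp [b0]
    simp only [ff, pp, comp_trPt, ea, e0]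
  refine ⟨⟨ff (fst _ _) (snd _ _), ?_, fun {W} t g x => ?_⟩⟩
  · refine Over.OverMorphism.ext ?_
    show (ff (fst _ _) (snd _ _)).left ≫ X.X.hom ≫ e.hom = _
    rw [← Category.assoc, trPt_left_hom]
    simp [b0]
    rfl
  · change W ⟶ totalSpace q X at x
    rw [mkData_smul, mkData_smul]
    show lift t (op q X g x) ≫ ff (fst (O R L) (totalSpace q X)) (snd (O R L) (totalSpace q X)) =
      op q X g (lift t x ≫ ff (fst (O R L) (totalSpace q X)) (snd (O R L) (totalSpace q X)))
    rw [hcomp, hcomp, lift_fst, lift_snd, lift_fst, lift_snd]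
    have eb : bA t (op q X g x) = bA t x := by
      refine Over.OverMorphism.ext (pullback.hom_ext ?_ ?_) <;> simp [bA, op_left_hom]
    simp only [ff, pp, eb]
    refine Eq.trans (trPt_congr _ _ _ ε (trPt_op _ _ _ εi g x (bA t x) (by simp [bA])) _
      (by rw [op_left_hom]; exact hpp t x)) ?_
    exact trPt_op _ _ _ ε g _ (b0 t) (hpp t x)

include he in
theorem equivIso_of_fam {L : Type u} [CommRing L] [Algebra R L] (F : Fam (mkData q e he X) L) :
    ∃ P : NonAbH1.TorsorSch (Red.bc (O R L).hom G) Scheme.fppfPrecoverage,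
      Nonempty (NonAbH1.EquivIso (bcAct (pullback.snd q (O R L).hom) (O R L).hom rfl P)
        (bcAct (pullback.fst q (O R L).hom) q pullback.condition X)) := by
  let j := (O R L).hom
  let z : (O R L).left ⟶ A := (zPt R n (O R L)).left ≫ e.inv
  have hz : z ≫ q = j := zPt_comp_hom q e he (O R L)
  let P : NonAbH1.TorsorSch (Red.bc j G) Scheme.fppfPrecoverage :=
    ⟨Red.bc z X.X, bcAct z q hz X, isTorsorFor_restrict (NonAbH1.isTorsorFor_bc z _ X.isTorsor) _⟩
  refine ⟨P, ?_⟩
  let f₁ := pullback.fst q j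
  let f₂ := pullback.snd q j
  let W : Over (Spec (CommRingCat.of R)) := Over.mk ((Red.bc f₁ X.X).hom ≫ f₂ ≫ j)
  let x : W ⟶ totalSpace q X := Over.homMk (pullback.fst X.X.hom f₁) (by
    show pullback.fst X.X.hom f₁ ≫ X.X.hom ≫ q = pullback.snd X.X.hom f₁ ≫ f₂ ≫ j
    rw [pullback.condition_assoc, pullback.condition])
  let t : W ⟶ O R L := Over.homMk (pullback.snd X.X.hom f₁ ≫ f₂) (Category.assoc _ _ _)
  have hy : (F.ap t x).left ≫ X.X.hom = t.left ≫ z := by
    have h1 := congrArg CommaMorphism.left ((F.ap_π t x).trans (comp_zPt n t).symm)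
    change (F.ap t x).left ≫ X.X.hom ≫ e.hom = t.left ≫ (zPt R n (O R L)).left at h1
    rw [← cancel_mono e.hom]
    simp only [z, Category.assoc, Iso.inv_hom_id, Category.comp_id]
    exact h1
  let φ : Red.bc f₁ X.X ⟶ Red.bc f₂ P.X := Over.homMk
    (pullback.lift (pullback.lift (F.ap t x).left t.left hy) (pullback.snd X.X.hom f₁)
      (pullback.lift_snd _ _ _)) (pullback.lift_snd _ _ _)
  have hφ : (bcAct f₁ q pullback.condition X).act ≫ φ =
      (Red.bc (f₂ ≫ j) G ◁ φ) ≫ (bcAct f₂ j rfl P).act := by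
    let U : Over (pullback q j) := Red.bc (f₂ ≫ j) G ⊗ Red.bc f₁ X.X
    let V : Over (Spec (CommRingCat.of R)) := (Over.map (f₂ ≫ j)).obj U
    let gG : V ⟶ G := (pointEquiv (f₂ ≫ j) G U).symm (fst _ _)
    let xv : V ⟶ W := Over.homMk (snd (Red.bc (f₂ ≫ j) G) (Red.bc f₁ X.X)).left (by
      show _ ≫ (Red.bc f₁ X.X).hom ≫ f₂ ≫ j = U.hom ≫ f₂ ≫ j
      rw [← Category.assoc, Over.w (snd _ _)])
    have hsn : (snd (Red.bc (f₂ ≫ j) G) (Red.bc f₁ X.X)).left ≫ (pullback.fst X.X.hom f₁) = (xv ≫ x).left := rfl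
    have hg : fst (Red.bc (f₂ ≫ j) G) (Red.bc f₁ X.X) = pointEquiv (f₂ ≫ j) G U (𝟙 V ≫ gG) := by
      rw [Category.id_comp, MulEquiv.apply_symm_apply]
    have hL : (bcAct f₁ q pullback.condition X).act.left ≫ pullback.fst X.X.hom f₁ = (op q X gG (xv ≫ x)).left := by
      have h1 := bcAct_spec f₁ q pullback.condition X gG (xv ≫ x) (𝟙 V)
        (snd (Red.bc (f₂ ≫ j) G) (Red.bc f₁ X.X)) (hsn.trans (Category.id_comp _).symm)
      rw [← hg, lift_fst_snd, Category.id_comp] at h1
      exact h1.trans (Category.id_comp _)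
    have hsnd : (bcAct f₁ q pullback.condition X).act.left ≫ pullback.snd X.X.hom f₁ = U.hom :=
      Over.w (bcAct f₁ q pullback.condition X).act
    let act' : V ⟶ W := Over.homMk (bcAct f₁ q pullback.condition X).act.left (by
      show _ ≫ (Red.bc f₁ X.X).hom ≫ f₂ ≫ j = U.hom ≫ f₂ ≫ j
      rw [← Category.assoc, Over.w _])
    have hx' : act' ≫ x = op q X gG (xv ≫ x) := Over.OverMorphism.ext hL
    have hxvs : xv.left ≫ pullback.snd X.X.hom f₁ = U.hom :=
      Over.w (snd (Red.bc (f₂ ≫ j) G) (Red.bc f₁ X.X))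
    have ht' : act' ≫ t = xv ≫ t := by
      refine Over.OverMorphism.ext ?_
      show (bcAct f₁ q pullback.condition X).act.left ≫ pullback.snd X.X.hom f₁ ≫ f₂ =
        xv.left ≫ pullback.snd X.X.hom f₁ ≫ f₂
      rw [← Category.assoc, ← Category.assoc, hsnd, hxvs]
    refine Over.OverMorphism.ext (pullback.hom_ext ?_ ((Over.w _).trans (Over.w _).symm))
    let pP : V ⟶ totalSpace j P := Over.homMk (xv.left ≫ pullback.lift (F.ap t x).left t.left hy) (by
      show (_ ≫ _) ≫ pullback.snd X.X.hom z ≫ j = V.hom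
      rw [Category.assoc, pullback.lift_snd_assoc]
      exact Over.w (xv ≫ t))
    have hR := bcAct_spec f₂ j rfl P gG pP (𝟙 V) (snd _ _ ≫ φ) (by
      show (xv.left ≫ pullback.lift _ (pullback.snd X.X.hom f₁) _) ≫ pullback.fst (Red.bc z X.X).hom f₂ = _
      rw [Category.assoc, pullback.lift_fst]
      exact (Category.id_comp _).symm)
    rw [← hg] at hR
    have hw : lift (fst (Red.bc (f₂ ≫ j) G) (Red.bc f₁ X.X)) (snd _ _ ≫ φ) = Red.bc (f₂ ≫ j) G ◁ φ := by
      apply CartesianMonoidalCategory.hom_ext <;> simp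
    rw [hw] at hR
    change (bcAct f₁ q pullback.condition X).act.left ≫ φ.left ≫ pullback.fst (Red.bc z X.X).hom f₂ = _
    simp only [φ, Over.homMk_left]
    erw [pullback.lift_fst]
    rw [ hR.trans (Category.id_comp _)]
    refine pullback.hom_ext ?_ ?_
    · rw [Category.assoc, pullback.lift_fst]
      have h2 := bcAct_spec z q hz X gG (xv ≫ F.ap t x) (upMap j P pP) (upPt j P pP)
        (show (xv.left ≫ pullback.lift _ _ _) ≫ pullback.fst X.X.hom z = 𝟙 V.left ≫ _ by
          rw [Category.assoc, pullback.lift_fst, Category.id_comp]; rfl)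
      refine Eq.trans ?_ (h2.trans (Category.id_comp _)).symm
      have h3 : act' ≫ F.ap t x = op q X gG (xv ≫ F.ap t x) := by
        have h4 := F.ap_smul (xv ≫ t) gG (xv ≫ x)
        rw [mkData_smul, mkData_smul] at h4
        rw [Fam.comp_ap, ht', hx', h4, ← Fam.comp_ap]
      exact congrArg CommaMorphism.left h3
    · rw [Category.assoc, pullback.lift_snd]
      erw [show (bcAct f₁ q pullback.condition X).act.left ≫ t.left = (xv ≫ t).left from
        congrArg CommaMorphism.left ht']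
      refine Eq.symm ((op_left_hom j P gG pP).trans ?_)
      show (xv.left ≫ pullback.lift _ _ _) ≫ pullback.snd X.X.hom z = _
      rw [Category.assoc, pullback.lift_snd]
      rfl
  haveI : IsIso φ := SchTorsor.isIso_of_equivariant
    (toFpqc (isTorsorFor_restrict (NonAbH1.isTorsorFor_bc f₁ _ X.isTorsor) _))
    (toFpqc (isTorsorFor_restrict (NonAbH1.isTorsorFor_bc f₂ _ P.isTorsor) _)).1 φ hφ
  refine ⟨⟨(asIso φ).symm, ?_⟩⟩
  rw [Iso.symm_hom, asIso_inv, ← cancel_mono φ, Category.assoc, IsIso.inv_hom_id, Category.comp_id,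
    Category.assoc, hφ, ← MonoidalCategory.whiskerLeft_comp_assoc, IsIso.inv_hom_id,
    MonoidalCategory.whiskerLeft_id, Category.id_comp]

end Global

end Groth.Agent.TorsPatch28
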