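import Groth.Agent.QuillenLib.Patch
import Mathlib.RingTheory.TensorProduct.MvPolynomial
import Mathlib.RingTheory.Localization.BaseChange

/-!
# Algebras of coordinates for patching on a relative affine space

For algebras `P`, `L` and an index type `n` we use `Coord R n P L = (P ⊗ R[n]) ⊗ L`.
-/

universe u

open scoped TensorProduct
open Polynomial CategoryTheory AlgebraicGeometry Limits MonoidalCategory CartesianMonoidalCategory

noncomputable section

set_option backward.isDefEq.respectTransparency false
set_option linter.style.haveILetI false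

namespace Groth.Agent.TorsPatch28

open Groth.Agent.QuillenLib

variable {R : Type u} [CommRing R] (n : Type u)

/-- Coordinates of a product with a relative affine space. -/
def Coord (R : Type u) [CommRing R] (n P L : Type u) [CommRing P] [CommRing L] [Algebra R P] [Algebra R L] :
    Type u := (P ⊗[R] MvPolynomial n R) ⊗[R] L

instance {n P L : Type u} [CommRing P] [CommRing L] [Algebra R P] [Algebra R L] : CommRing (Coord R n P L) :=
  inferInstanceAs (CommRing ((P ⊗[R] MvPolynomial n R) ⊗[R] L))

instance {n P L : Type u} [CommRing P] [CommRing L] [Algebra R P] [Algebra R L] : Algebra R (Coord R n P L) :=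
  inferInstanceAs (Algebra R ((P ⊗[R] MvPolynomial n R) ⊗[R] L))

variable {n} {P P' L L' : Type u} [CommRing P] [CommRing P'] [CommRing L] [CommRing L'] [Algebra R P] [Algebra R P']
  [Algebra R L] [Algebra R L']

/-- The first coordinate. -/
def inP (R : Type u) [CommRing R] (n P L : Type u) [CommRing P] [CommRing L] [Algebra R P] [Algebra R L] :
    P →ₐ[R] Coord R n P L :=
  (Algebra.TensorProduct.includeLeft).comp Algebra.TensorProduct.includeLeft

/-- The variables. -/
def inM (R : Type u) [CommRing R] (n P L : Type u) [CommRing P] [CommRing L] [Algebra R P] [Algebra R L] :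
    MvPolynomial n R →ₐ[R] Coord R n P L :=
  (Algebra.TensorProduct.includeLeft).comp Algebra.TensorProduct.includeRight

/-- The last coordinate. -/
def inL (R : Type u) [CommRing R] (n P L : Type u) [CommRing P] [CommRing L] [Algebra R P] [Algebra R L] :
    L →ₐ[R] Coord R n P L :=
  Algebra.TensorProduct.includeRight

theorem coord_ext {C : Type u} [CommRing C] [Algebra R C] {f g : Coord R n P L →ₐ[R] C}
    (hP : f.comp (inP R n P L) = g.comp (inP R n P L))
    (hM : ∀ i, f (inM R n P L (MvPolynomial.X i)) = g (inM R n P L (MvPolynomial.X i)))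
    (hL : f.comp (inL R n P L) = g.comp (inL R n P L)) : f = g := by
  refine Algebra.TensorProduct.ext (A := P ⊗[R] MvPolynomial n R) (B := L) (Algebra.TensorProduct.ext ?_ (MvPolynomial.algHom_ext fun i => ?_)) hL
  · exact AlgHom.ext fun x => AlgHom.congr_fun hP x
  · exact hM i

/-- The map out of the coordinates. -/
def coordLift {C : Type u} [CommRing C] [Algebra R C] (fP : P →ₐ[R] C) (x : n → C) (fL : L →ₐ[R] C) :
    Coord R n P L →ₐ[R] C :=
  Algebra.TensorProduct.lift (Algebra.TensorProduct.lift fP (MvPolynomial.aeval x) fun _ _ => .all _ _) fL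
    fun _ _ => .all _ _

@[simp] theorem coordLift_inP {C : Type u} [CommRing C] [Algebra R C] (fP : P →ₐ[R] C) (x : n → C)
    (fL : L →ₐ[R] C) (p : P) : coordLift fP x fL (inP R n P L p) = fP p := by
  simp [coordLift, inP, inM, inL, Coord]

@[simp] theorem coordLift_inM {C : Type u} [CommRing C] [Algebra R C] (fP : P →ₐ[R] C) (x : n → C)
    (fL : L →ₐ[R] C) (i : n) : coordLift fP x fL (inM R n P L (MvPolynomial.X i)) = x i := by
  simp [coordLift, inP, inM, inL, Coord]

@[simp] theorem coordLift_inL {C : Type u} [CommRing C] [Algebra R C] (fP : P →ₐ[R] C) (x : n → C)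
    (fL : L →ₐ[R] C) (l : L) : coordLift fP x fL (inL R n P L l) = fL l := by
  simp [coordLift, inP, inM, inL, Coord]

/-- Functoriality of the coordinates. -/
def coordMap (α : P →ₐ[R] P') (β : L →ₐ[R] L') : Coord R n P L →ₐ[R] Coord R n P' L' :=
  Algebra.TensorProduct.map (Algebra.TensorProduct.map α (AlgHom.id R _)) β

@[simp] theorem coordMap_inP (α : P →ₐ[R] P') (β : L →ₐ[R] L') (p : P) :
    coordMap (n := n) α β (inP R n P L p) = inP R n P' L' (α p) := by
  simp [coordMap, inP, Coord]

@[simp] theorem coordMap_inM (α : P →ₐ[R] P') (β : L →ₐ[R] L') (q : MvPolynomial n R) :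
    coordMap (n := n) α β (inM R n P L q) = inM R n P' L' q := by
  simp [coordMap, inM, Coord]

@[simp] theorem coordMap_inL (α : P →ₐ[R] P') (β : L →ₐ[R] L') (l : L) :
    coordMap (n := n) α β (inL R n P L l) = inL R n P' L' (β l) := by
  simp [coordMap, inL, Coord]

/-- Multiplication of all variables by the polynomial variable. -/
def homot (R : Type u) [CommRing R] (n P L : Type u) [CommRing P] [CommRing L] [Algebra R P] [Algebra R L] :
    Coord R n P L →ₐ[R] (Coord R n P L)[X] :=
  coordLift (C := (Coord R n P L)[X]) ((cst R (Coord R n P L)).comp (inP R n P L)) (fun i => C (inM R n P L (MvPolynomial.X i)) * X)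
    ((cst R (Coord R n P L)).comp (inL R n P L))

/-- The zero section in coordinates. -/
def zeroC (R : Type u) [CommRing R] (n P L : Type u) [CommRing P] [CommRing L] [Algebra R P] [Algebra R L] :
    Coord R n P L →ₐ[R] Coord R n P L :=
  coordLift (C := Coord R n P L) (inP R n P L) (fun _ => 0) (inL R n P L)

theorem ev0_homot : (ev0 R (Coord R n P L)).comp (homot R n P L) = zeroC R n P L := by
  refine coord_ext ?_ (fun i => ?_) ?_
  · ext x; simp [homot, zeroC, ev0, cst]
  · simp [homot, zeroC, ev0]
  · ext x; simp [homot, zeroC, ev0, cst]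

/-- Evaluation of the polynomial variable at one. -/
def ev1 (R P : Type u) [CommRing R] [CommRing P] [Algebra R P] : P[X] →ₐ[R] P :=
  (Polynomial.aeval (R := P) (1 : P)).restrictScalars R

theorem ev1_homot : (ev1 R (Coord R n P L)).comp (homot R n P L) = AlgHom.id R _ := by
  refine coord_ext ?_ (fun i => ?_) ?_
  · ext x; simp [homot, ev1, cst]
  · simp [homot, ev1]
  · ext x; simp [homot, ev1, cst]

theorem map_comp_homot (α : P →ₐ[R] P') (β : L →ₐ[R] L') :
    (mapAlgHom (coordMap (n := n) α β)).comp (homot R n P L) = (homot R n P' L').comp (coordMap α β) := by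
  refine coord_ext ?_ (fun i => ?_) ?_
  · ext x; simp [homot, cst]
  · simp [homot]
  · ext x; simp [homot, cst]

theorem isLocAt_tensor (Q : Type u) [CommRing Q] [Algebra R Q] {r s : R} (φ : L →ₐ[R] L')
    [IsLocalization.Away r L] [IsLocalization.Away (r * s) L'] :
    IsLocAt (A := Q ⊗[R] L) (B := Q ⊗[R] L') (Algebra.TensorProduct.map (AlgHom.id R Q) φ) s := by
  haveI h1 : IsLocalization.Away (algebraMap R Q r) (Q ⊗[R] L) := by
    have := IsLocalization.tensor (S := Q) L (Submonoid.powers r)
    rwa [Algebra.algebraMapSubmonoid, Submonoid.map_powers] at this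
  haveI h2 : IsLocalization.Away (algebraMap R Q r * algebraMap R Q s) (Q ⊗[R] L') := by
    have := IsLocalization.tensor (S := Q) L' (Submonoid.powers (r * s))
    rwa [Algebra.algebraMapSubmonoid, Submonoid.map_powers, map_mul] at this
  have h := isLocAt_away (R := Q) (r := algebraMap R Q r)
    (Algebra.TensorProduct.map (AlgHom.id Q Q) φ) (t := algebraMap R Q s) (s := algebraMap R Q s) rfl
  refine ⟨?_, fun b => ?_, fun a ha => ?_⟩
  · rw [IsScalarTower.algebraMap_apply R Q (Q ⊗[R] L')]
    exact h.unit
  · obtain ⟨N, a, ha⟩ := h.surj b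
    refine ⟨N, a, ?_⟩
    rw [IsScalarTower.algebraMap_apply R Q (Q ⊗[R] L')]
    exact ha
  · obtain ⟨N, hN⟩ := h.ker a ha
    refine ⟨N, ?_⟩
    rw [IsScalarTower.algebraMap_apply R Q (Q ⊗[R] L)]
    exact hN

theorem isLocAt_coordMap {r s : R} (φ : L →ₐ[R] L') [IsLocalization.Away r L] [IsLocalization.Away (r * s) L'] :
    IsLocAt (A := Coord R n P L) (B := Coord R n P L') (coordMap (n := n) (AlgHom.id R P) φ) s := by
  have := isLocAt_tensor (r := r) (s := s) (P ⊗[R] MvPolynomial n R) φ
  rw [coordMap, Algebra.TensorProduct.map_id]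
  exact this

/-- Maps to the spectrum of a tensor product are pairs of maps. -/
theorem exists_lift_tensor {W : Over (Spec (CommRingCat.of R))} (f : W ⟶ O R P) (g : W ⟶ O R P') :
    ∃ l : W ⟶ O R (P ⊗[R] P'), l ≫ om Algebra.TensorProduct.includeLeft = f ∧
      l ≫ om Algebra.TensorProduct.includeRight = g := by
  have hw : f.left ≫ Spec.map (CommRingCat.ofHom (algebraMap R P)) =
      g.left ≫ Spec.map (CommRingCat.ofHom (algebraMap R P')) := (Over.w f).trans (Over.w g).symm
  let m := pullback.lift f.left g.left hw ≫ (pullbackSpecIso R P P').hom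
  have h1 : m ≫ Spec.map (CommRingCat.ofHom (Algebra.TensorProduct.includeLeft : P →ₐ[R] P ⊗[R] P').toRingHom) =
      f.left := by
    simp only [m, Category.assoc]
    erw [pullbackSpecIso_hom_fst R P P', pullback.lift_fst]
  have h2 : m ≫ Spec.map (CommRingCat.ofHom (Algebra.TensorProduct.includeRight : P' →ₐ[R] P ⊗[R] P').toRingHom) =
      g.left := by
    simp only [m, Category.assoc]
    erw [pullbackSpecIso_hom_snd R P P', pullback.lift_snd]
  refine ⟨Over.homMk m ?_, Over.OverMorphism.ext h1, Over.OverMorphism.ext h2⟩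
  show m ≫ Spec.map (CommRingCat.ofHom (algebraMap R (P ⊗[R] P'))) = W.hom
  rw [← (Algebra.TensorProduct.includeLeft : P →ₐ[R] P ⊗[R] P').comp_algebraMap, specMap_comp, ← Category.assoc]
  erw [h1]
  exact Over.w f

theorem hom_ext_tensor {W : Over (Spec (CommRingCat.of R))} {f g : W ⟶ O R (P ⊗[R] P')}
    (h1 : f ≫ om Algebra.TensorProduct.includeLeft = g ≫ om Algebra.TensorProduct.includeLeft)
    (h2 : f ≫ om Algebra.TensorProduct.includeRight = g ≫ om Algebra.TensorProduct.includeRight) : f = g := by
  refine Over.OverMorphism.ext ?_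
  rw [← cancel_mono (pullbackSpecIso R P P').inv]
  refine pullback.hom_ext ?_ ?_
  · simp only [Category.assoc]
    erw [pullbackSpecIso_inv_fst R P P']
    exact congrArg CommaMorphism.left h1
  · simp only [Category.assoc]
    erw [pullbackSpecIso_inv_snd R P P']
    exact congrArg CommaMorphism.left h2

theorem exists_lift_coord {W : Over (Spec (CommRingCat.of R))} (f : W ⟶ O R P)
    (x : W ⟶ O R (MvPolynomial n R)) (g : W ⟶ O R L) :
    ∃ l : W ⟶ O R (Coord R n P L), l ≫ om (inP R n P L) = f ∧ l ≫ om (inM R n P L) = x ∧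
      l ≫ om (inL R n P L) = g := by
  obtain ⟨m, h1, h2⟩ := exists_lift_tensor f x
  obtain ⟨l, h3, h4⟩ := exists_lift_tensor m g
  change W ⟶ O R (Coord R n P L) at l
  refine ⟨l, ?_, ?_, h4⟩
  · rw [inP]; erw [om_comp]; rw [← Category.assoc]; erw [h3]; exact h1
  · rw [inM]; erw [om_comp]; rw [← Category.assoc]; erw [h3]; exact h2

theorem hom_ext_coord {W : Over (Spec (CommRingCat.of R))} {f g : W ⟶ O R (Coord R n P L)}
    (h1 : f ≫ om (inP R n P L) = g ≫ om (inP R n P L))
    (h2 : f ≫ om (inM R n P L) = g ≫ om (inM R n P L))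
    (h3 : f ≫ om (inL R n P L) = g ≫ om (inL R n P L)) : f = g := by
  refine hom_ext_tensor (hom_ext_tensor ?_ ?_) h3
  · rw [inP] at h1; erw [om_comp] at h1; rw [← Category.assoc, ← Category.assoc] at h1; exact h1
  · rw [inM] at h2; erw [om_comp] at h2; rw [← Category.assoc, ← Category.assoc] at h2; exact h2

end Groth.Agent.TorsPatch28
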