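import Groth.Agent.TorsPatch28.Glue
import Groth.Agent.TorsNorm28.Basic
import Groth.Agent.TorsNorm28.FibreProd
import Groth.Agent.SchTorsor.Props
import Groth.Prelude.Def_ActBC

/-!
# Torsors on a relative affine space as point data over the base
-/

universe u

open CategoryTheory Limits AlgebraicGeometry MonoidalCategory CartesianMonoidalCategory MonObj

noncomputable section

set_option linter.style.haveILetI false

namespace Groth.Agent.TorsPatch28

open Groth.Agent.QuillenLib Groth.Agent.GrpSchLib.TopDescent Groth.Agent.TorsNorm28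

variable {R : Type u} [CommRing R]

section Op

variable {A : Scheme.{u}} (q : A ⟶ Spec (CommRingCat.of R)) {G : Over (Spec (CommRingCat.of R))} [GrpObj G]
  {K : Precoverage Scheme.{u}} (X : NonAbH1.TorsorSch (Red.bc q G) K)

/-- The total space over the base. -/
abbrev totalSpace : Over (Spec (CommRingCat.of R)) := Over.mk (X.X.hom ≫ q)

variable {W W' : Over (Spec (CommRingCat.of R))}

/-- A point of the total space as an object over the intermediate base. -/
abbrev upObj (x : W ⟶ totalSpace q X) : Over A := Over.mk (x.left ≫ X.X.hom)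

/-- The tautological point. -/
abbrev upPt (x : W ⟶ totalSpace q X) : upObj q X x ⟶ X.X := Over.homMk x.left rfl

/-- Comparison with the original source. -/
abbrev upMap (x : W ⟶ totalSpace q X) : (Over.map q).obj (upObj q X x) ⟶ W :=
  Over.homMk (𝟙 W.left) (by
    show 𝟙 W.left ≫ W.hom = (x.left ≫ X.X.hom) ≫ q
    rw [Category.id_comp, Category.assoc]
    exact (Over.w x).symm)

/-- The action on points of the total space. -/
def op (g : W ⟶ G) (x : W ⟶ totalSpace q X) : W ⟶ totalSpace q X :=
  Over.homMk ((lift (pointEquiv q G _ (upMap q X x ≫ g)) (upPt q X x) ≫ X.act.act).left) (by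
    have h := Over.w (lift (pointEquiv q G _ (upMap q X x ≫ g)) (upPt q X x) ≫ X.act.act)
    show _ ≫ X.X.hom ≫ q = W.hom
    rw [← Category.assoc, h]
    show (x.left ≫ X.X.hom) ≫ q = W.hom
    rw [Category.assoc]; exact Over.w x)

theorem op_spec (g : W ⟶ G) (x : W ⟶ totalSpace q X) {T : Over A} (k : (Over.map q).obj T ⟶ W) (z : T ⟶ X.X)
    (hz : z.left = k.left ≫ x.left) :
    k.left ≫ (op q X g x).left = (lift (pointEquiv q G T (k ≫ g)) z ≫ X.act.act).left := by
  let m : T ⟶ upObj q X x := Over.homMk k.left (by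
    show k.left ≫ x.left ≫ X.X.hom = T.hom
    rw [← Category.assoc, ← hz]; exact Over.w z)
  have hk : (Over.map q).map m ≫ upMap q X x = k := Over.OverMorphism.ext (Category.comp_id k.left)
  have h1 : m ≫ pointEquiv q G _ (upMap q X x ≫ g) = pointEquiv q G T (k ≫ g) := by
    rw [← hk, Category.assoc]
    exact ((Over.mapPullbackAdj q).homEquiv_naturality_left m (upMap q X x ≫ g)).symm
  have h2 : m ≫ upPt q X x = z := Over.OverMorphism.ext hz.symm
  have h := congrArg CommaMorphism.left
    (comp_lift_assoc m (pointEquiv q G _ (upMap q X x ≫ g)) (upPt q X x) X.act.act)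
  rw [h1, h2] at h
  exact h

theorem op_left_hom (g : W ⟶ G) (x : W ⟶ totalSpace q X) :
    (op q X g x).left ≫ X.X.hom = x.left ≫ X.X.hom :=
  Over.w (lift (pointEquiv q G _ (upMap q X x ≫ g)) (upPt q X x) ≫ X.act.act)

theorem comp_op (f : W' ⟶ W) (g : W ⟶ G) (x : W ⟶ totalSpace q X) :
    f ≫ op q X g x = op q X (f ≫ g) (f ≫ x) := by
  refine Over.OverMorphism.ext ?_
  have h := op_spec q X g x (upMap q X (f ≫ x) ≫ f) (upPt q X (f ≫ x)) (by simp)
  simp only [Over.comp_left, Over.homMk_left, Category.assoc] at h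
  simp only [Over.comp_left]
  refine (?_ : _ = _).trans (h.trans ?_)
  · exact (Category.id_comp _).symm
  · rfl

theorem op_one (x : W ⟶ totalSpace q X) : op q X 1 x = x := by
  refine Over.OverMorphism.ext ?_
  show (lift (pointEquiv q G _ (upMap q X x ≫ 1)) (upPt q X x) ≫ X.act.act).left = x.left
  rw [MonObj.comp_one, map_one, SchTorsor.one_act_pt]
  rfl

theorem op_mul (g h : W ⟶ G) (x : W ⟶ totalSpace q X) : op q X (g * h) x = op q X g (op q X h x) := by
  refine Over.OverMorphism.ext ?_
  let z := lift (pointEquiv q G _ (upMap q X x ≫ h)) (upPt q X x) ≫ X.act.act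
  have h2 := op_spec q X g (op q X h x) (upMap q X x) z (Category.id_comp z.left).symm
  simp only [Over.homMk_left] at h2
  refine Eq.trans ?_ ((Category.id_comp _).symm.trans h2).symm
  show (lift (pointEquiv q G _ (upMap q X x ≫ (g * h))) (upPt q X x) ≫ X.act.act).left = _
  rw [MonObj.comp_mul, map_mul, SchTorsor.act_assoc]

/-- The action on the total space. -/
def totalAct : AlgGrp.Action G (totalSpace q X) where
  act := op q X (fst _ _) (snd _ _)
  one_act := by
    rw [comp_op, whiskerRight_fst, whiskerRight_snd,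
      show fst (𝟙_ (Over (Spec (CommRingCat.of R)))) (totalSpace q X) ≫ η[G] = 1 from by
        rw [Hom.one_def, toUnit_unique (fst _ _) (toUnit _)],
      op_one, leftUnitor_hom]
  mul_act := by
    simp only [comp_op, whiskerRight_fst, whiskerRight_snd, associator_hom_fst_assoc, whiskerLeft_fst,
      whiskerLeft_snd_assoc, whiskerLeft_fst_assoc, whiskerLeft_snd, associator_hom_fst]
    simp only [← Category.assoc, ← comp_lift]
    rw [show fst (G ⊗ G) (totalSpace q X) ≫ μ[G] =
      (fst (G ⊗ G) (totalSpace q X) ≫ fst G G) * (fst (G ⊗ G) (totalSpace q X) ≫ snd G G) from by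
        rw [Hom.mul_def, ← comp_lift, lift_fst_snd, Category.comp_id], op_mul]
    congr 1
    simp [comp_op]

theorem smul_totalAct (g : W ⟶ G) (x : W ⟶ totalSpace q X) : lift g x ≫ (totalAct q X).act = op q X g x := by
  show lift g x ≫ op q X (fst _ _) (snd _ _) = _
  rw [comp_op, lift_fst, lift_snd]

theorem exists_op_div (x y : W ⟶ totalSpace q X) (h : x.left ≫ X.X.hom = y.left ≫ X.X.hom) :
    ∃ g : W ⟶ G, op q X g y = x := by
  let z : upObj q X x ⟶ X.X := upPt q X x
  let z' : upObj q X x ⟶ X.X := Over.homMk y.left h.symm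
  obtain ⟨d, hd⟩ := SchTorsor.exists_div X.isTorsor.1 z z'
  let i : W ⟶ (Over.map q).obj (upObj q X x) := Over.homMk (𝟙 W.left) (by
    show 𝟙 W.left ≫ (x.left ≫ X.X.hom) ≫ q = W.hom
    rw [Category.id_comp, Category.assoc]
    exact Over.w x)
  refine ⟨i ≫ (pointEquiv q G _).symm d, Over.OverMorphism.ext ?_⟩
  have hi : upMap q X x ≫ i = 𝟙 _ := Over.OverMorphism.ext (Category.id_comp _)
  have h2 := op_spec q X (i ≫ (pointEquiv q G _).symm d) y (upMap q X x) z' (Category.id_comp y.left).symm
  rw [← Category.assoc, hi, Category.id_comp, MulEquiv.apply_symm_apply, hd] at h2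
  exact (Category.id_comp _).symm.trans h2

theorem op_free (g h : W ⟶ G) (y : W ⟶ totalSpace q X) (e : op q X g y = op q X h y) : g = h := by
  have e1 : pointEquiv q G _ (upMap q X y ≫ g) = pointEquiv q G _ (upMap q X y ≫ h) :=
    SchTorsor.act_free X.isTorsor.1 (y := upPt q X y) (Over.OverMorphism.ext (congrArg CommaMorphism.left e :))
  have e2 := congrArg CommaMorphism.left ((pointEquiv q G _).injective e1)
  refine Over.OverMorphism.ext ?_
  exact ((Category.id_comp g.left).symm.trans e2).trans (Category.id_comp h.left)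

end Op

section Data

variable {n : Type u} {A : Scheme.{u}} (q : A ⟶ Spec (CommRingCat.of R))
  (e : A ≅ (AffN R n).left) (he : e.hom ≫ (AffN R n).hom = q)
  {G : Over (Spec (CommRingCat.of R))} [GrpObj G]
  (X : NonAbH1.TorsorSch (Red.bc q G) Scheme.fppfPrecoverage)

/-- The data attached to a torsor. -/
def mkData : Data n G where
  X := totalSpace q X
  a := totalAct q X
  π := Over.homMk (X.X.hom ≫ e.hom) (by
    show (X.X.hom ≫ e.hom) ≫ (AffN R n).hom = X.X.hom ≫ q
    rw [Category.assoc, he])
  inv := by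
    refine Over.OverMorphism.ext ?_
    show (op q X (fst G (totalSpace q X)) (snd G (totalSpace q X))).left ≫ X.X.hom ≫ e.hom =
      (snd G (totalSpace q X)).left ≫ X.X.hom ≫ e.hom
    rw [← Category.assoc, op_left_hom, Category.assoc]
  exists_div := fun {W} x y h => by
    have h' := congrArg CommaMorphism.left h
    change x.left ≫ X.X.hom ≫ e.hom = y.left ≫ X.X.hom ≫ e.hom at h'
    rw [← Category.assoc, ← Category.assoc, cancel_mono] at h'
    obtain ⟨g, hg⟩ := exists_op_div q X x y h'
    exact ⟨g, by rw [smul_totalAct, hg]⟩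
  free := fun g h y e => op_free q X g h y (by rwa [smul_totalAct, smul_totalAct] at e)
  locSec := by
    obtain ⟨Rs, hR, hsec⟩ := SchTorsor.hasLocSec_toUnit (toFpqc X.isTorsor).2
    refine ⟨Rs.pullback e.inv, Scheme.fpqcTopology.pullback_stable _ hR, fun T c hc => ?_⟩
    obtain ⟨s, hs⟩ := hsec _ hc
    have hu : (toUnit X.X).left = X.X.hom := (Category.comp_id _).symm.trans (Over.w (toUnit X.X))
    refine ⟨s, ?_⟩
    show s ≫ X.X.hom ≫ e.hom = c
    rw [← hu, reassoc_of% hs, e.inv_hom_id, Category.comp_id]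

@[simp] theorem mkData_smul {W : Over (Spec (CommRingCat.of R))} (g : W ⟶ G) (x : W ⟶ totalSpace q X) :
    (mkData q e he X).smul g x = op q X g x := smul_totalAct q X g x

/-- A trivialisation of the restriction to the zero section. -/
theorem exists_trivialisation :
    ∃ (P : Type u) (_ : CommRing P) (_ : Algebra R P) (p : O R P ⟶ (mkData q e he X).X),
      p ≫ (mkData q e he X).π = zPt R n _ ∧ HasLocSec Scheme.fpqcTopology (toUnit (O R P)) := by
  let z : Spec (CommRingCat.of R) ⟶ A := (zPt R n (𝟙_ (Over (Spec (CommRingCat.of R))))).left ≫ e.inv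
  obtain ⟨Z, f, _, _, _, s, hs⟩ := SchTorsor.exists_single
    (NonAbH1.isLocallyTrivialFor_bc z Scheme.fpqcPrecoverage (toFpqc X.isTorsor).2) (𝟙 (Spec (CommRingCat.of R)))
  haveI : CompactSpace Z := QuasiCompact.compactSpace_of_compactSpace f
  let 𝒰 := Z.affineCover.finiteSubcover
  let U := ∐ 𝒰.X
  let u : U ⟶ Z := Sigma.desc 𝒰.f
  haveI : Flat u := IsZariskiLocalAtSource.sigmaDesc fun i => inferInstance
  haveI : Surjective u := ⟨fun x => ⟨Sigma.ι 𝒰.X (𝒰.idx x) (𝒰.covers x).choose, by
    rw [← Scheme.Hom.comp_apply, Sigma.ι_desc]; exact (𝒰.covers x).choose_spec⟩⟩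
  haveI : IsAffine U := inferInstance
  let P : Type u := Γ(U, ⊤)
  let w : Spec (CommRingCat.of P) ⟶ Spec (CommRingCat.of R) := U.isoSpec.inv ≫ u ≫ f
  let φ : CommRingCat.of R ⟶ CommRingCat.of P := Spec.preimage w
  letI : Algebra R P := φ.hom.toAlgebra
  have hw : (O R P).hom = w := Spec.map_preimage w
  haveI : Flat (O R P).hom := by rw [hw]; infer_instance
  haveI : Surjective (O R P).hom := by rw [hw]; infer_instance
  haveI : QuasiCompact (O R P).hom := inferInstanceAs (QuasiCompact (Spec.map _))
  let s' : Spec (CommRingCat.of P) ⟶ X.X.left := U.isoSpec.inv ≫ u ≫ s ≫ pullback.fst X.X.hom z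
  have hs' : s' ≫ X.X.hom = (O R P).hom ≫ z := by
    rw [hw]
    simp only [s', w, Category.assoc, pullback.condition]
    have hs2 : s ≫ pullback.snd X.X.hom z = f := hs.trans (Category.comp_id f)
    rw [reassoc_of% hs2]
  have hzq : z ≫ q = 𝟙 _ := by
    simp only [z, ← he, Category.assoc, Iso.inv_hom_id_assoc]
    exact Over.w (zPt R n (𝟙_ (Over (Spec (CommRingCat.of R)))))
  refine ⟨P, inferInstance, inferInstance, Over.homMk s' ?_, Over.OverMorphism.ext ?_, ?_⟩
  · show s' ≫ X.X.hom ≫ q = _
    rw [← Category.assoc, hs', Category.assoc, hzq]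
    exact Category.comp_id _
  · show s' ≫ X.X.hom ≫ e.hom = (zPt R n (O R P)).left
    rw [← Category.assoc, hs', Category.assoc]
    simp only [z, Category.assoc, Iso.inv_hom_id, Category.comp_id]
    have h := congrArg CommaMorphism.left (comp_zPt n (toUnit (O R P)))
    change (toUnit (O R P)).left ≫ (zPt R n (𝟙_ (Over (Spec (CommRingCat.of R))))).left = _ at h
    rw [show (toUnit (O R P)).left = (O R P).hom from
      (Category.comp_id _).symm.trans (Over.w (toUnit (O R P)))] at h
    exact h
  · refine ⟨Sieve.generate (Presieve.singleton (O R P).hom),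
      Precoverage.generate_mem_toGrothendieck (Scheme.Hom.singleton_mem_fpqcPrecoverage _), fun T c hc => ?_⟩
    obtain ⟨V, g, -, ⟨⟩, rfl⟩ := hc
    refine ⟨g, ?_⟩
    rw [show (toUnit (O R P)).left = (O R P).hom from (Category.comp_id _).symm.trans (Over.w (toUnit (O R P)))]

end Data

end Groth.Agent.TorsPatch28
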