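import Groth.Agent.QuillenLib.Patch

/-!
# Patching of points which satisfy a conjugation cocycle condition
-/

universe u

open CategoryTheory Limits AlgebraicGeometry Opposite Polynomial MonObj

noncomputable section

namespace Groth.Agent.TorsPatch28

open Groth.Agent.QuillenLib

variable {R : Type u} [CommRing R]
variable {A B A'' B'' : Type u} [CommRing A] [CommRing B] [CommRing A''] [CommRing B'']
  [Algebra R A] [Algebra R B] [Algebra R A''] [Algebra R B'']
variable {G : Over (Spec (CommRingCat.of R))} [GrpObj G]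

/-- `g` transforms under the pair of maps by conjugation with `c`. -/
def CocAt (i i' : A →ₐ[R] A'') (c : O R A'' ⟶ G) (g : O R A ⟶ G) : Prop :=
  om i' ≫ g = c * (om i ≫ g) * c⁻¹

theorem CocAt.mul {i i' : A →ₐ[R] A''} {c : O R A'' ⟶ G} {g g' : O R A ⟶ G} (h : CocAt i i' c g)
    (h' : CocAt i i' c g') : CocAt i i' c (g * g') := by
  unfold CocAt at *
  rw [MonObj.comp_mul, MonObj.comp_mul, h, h']
  group

theorem CocAt.inv {i i' : A →ₐ[R] A''} {c : O R A'' ⟶ G} {g : O R A ⟶ G} (h : CocAt i i' c g) :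
    CocAt i i' c g⁻¹ := by
  unfold CocAt at *
  rw [GrpObj.comp_inv, GrpObj.comp_inv, h]
  group

theorem CocAt.comp {C C'' : Type u} [CommRing C] [CommRing C''] [Algebra R C] [Algebra R C'']
    {i i' : A →ₐ[R] A''} {j j' : C →ₐ[R] C''} {σ : A →ₐ[R] C} {σ'' : A'' →ₐ[R] C''}
    (hi : σ''.comp i = j.comp σ) (hi' : σ''.comp i' = j'.comp σ)
    {c : O R A'' ⟶ G} {d : O R C'' ⟶ G} (hd : d = om σ'' ≫ c) {g : O R A ⟶ G} (h : CocAt i i' c g) :
    CocAt j j' d (om σ ≫ g) := by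
  unfold CocAt at *
  rw [← Category.assoc, ← Category.assoc, ← om_comp, ← om_comp, ← hi, ← hi', om_comp, om_comp, Category.assoc,
    Category.assoc, h, MonObj.comp_mul, MonObj.comp_mul, GrpObj.comp_inv, hd]

/-- The condition for points with values in polynomial algebras and a constant `c`. -/
abbrev PolyCoc (i i' : A →ₐ[R] A'') (c : O R A'' ⟶ G) (g : O R A[X] ⟶ G) : Prop :=
  CocAt (mapAlgHom i) (mapAlgHom i') (om (cst R A'') ≫ c) g

theorem scale_comp_map (φ : A →ₐ[R] B) (c : R) :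
    (scale R c).comp (mapAlgHom φ) = (mapAlgHom φ).comp (scale R c) :=
  AlgHom.ext fun p => scale_map φ c p

theorem scale_comp_cst (c : R) : (scale R (P := A) c).comp (cst R A) = cst R A := by
  ext x; simp [scale, cst]

theorem PolyCoc.scale {i i' : A →ₐ[R] A''} {c : O R A'' ⟶ G} {g : O R A[X] ⟶ G} (h : PolyCoc i i' c g) (t : R) :
    PolyCoc i i' c (om (scale R t) ≫ g) :=
  CocAt.comp (scale_comp_map i t) (scale_comp_map i' t) (by rw [← Category.assoc, ← om_comp, scale_comp_cst]) h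

theorem lin_map (φ : A →ₐ[R] B) (c : R) :
    (mapAlgHom (mapAlgHom (mapAlgHom φ))).comp (lin R A c) = (lin R B c).comp (mapAlgHom φ) := by
  refine polyHom_ext (R := R) (P := A) (Q := B[X][X][X]) (fun a => ?_) ?_
  · simp [lin]
  · simp [lin]

variable [LocallyOfFinitePresentation G.hom]

omit [GrpObj G] in
/-- Two descents agreeing over the localisation and at zero agree after scaling. -/
theorem exists_scale_eq {φ : A →ₐ[R] B} {r : R} (h : IsLocAt φ r) (q q' : O R A[X] ⟶ G)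
    (hB : om (mapAlgHom φ) ≫ q = om (mapAlgHom φ) ≫ q') (h0 : om (ev0 R A) ≫ q = om (ev0 R A) ≫ q') :
    ∃ K : ℕ, ∀ c : R, om (scale R (r ^ K * c)) ≫ q = om (scale R (r ^ K * c)) ≫ q' := by
  let D : Idx.{u}ᵒᵖ ⥤ Scheme.{u} := (sysF A r).op ⋙ Scheme.Spec
  let c : Cone D := Scheme.Spec.mapCone (stageCocone h).op
  have hc : IsLimit c := isLimitOfPreserves Scheme.Spec (stageColimit h).op
  let t : D ⟶ (Functor.const _).obj (Spec (CommRingCat.of R)) :=
    { app := fun i => Spec.map (CommRingCat.ofHom (algebraMap R A[X]))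
      naturality := fun i j f => by
        show Spec.map _ ≫ Spec.map _ = Spec.map _ ≫ 𝟙 _
        rw [Category.comp_id, ← Spec.map_comp]
        congr 1
        refine CommRingCat.hom_ext (RingHom.ext fun c => ?_)
        exact (scale R (P := A) _).commutes c }
  have : ∀ {i j : Idx.{u}ᵒᵖ} (f : i ⟶ j), IsAffineHom (D.map f) := fun {i j} f =>
    inferInstanceAs (IsAffineHom (Spec.map _))
  have : ∀ i, CompactSpace (D.obj i) := fun i => inferInstanceAs (CompactSpace (Spec _))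
  let a : D.obj (op ⟨0⟩) ⟶ G.left := q.left
  let b : D.obj (op ⟨0⟩) ⟶ G.left := q'.left
  have hab : c.π.app (op ⟨0⟩) ≫ a = c.π.app (op ⟨0⟩) ≫ b := by
    show Spec.map (CommRingCat.ofHom (stage h 0)) ≫ q.left = Spec.map (CommRingCat.ofHom (stage h 0)) ≫ q'.left
    refine hom_ext_pair (toB (ev0 R B).toRingHom φ.toRingHom) (toA (ev0 R B).toRingHom φ.toRingHom)
      (fun z h1 h2 => pinch_ext _ _ (h1.trans (map_zero _).symm) (h2.trans (map_zero _).symm))
      (pinch_surjective _ _ (fun b => ⟨C b, by simp [ev0]⟩)) _ _ ?_ ?_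
    · rw [← Category.assoc, ← Category.assoc, ← specMap_comp]
      have e : (toB (ev0 R B).toRingHom φ.toRingHom).comp (stage h 0) = (mapAlgHom φ).toRingHom :=
        RingHom.ext fun p => by
          show h.down 0 (mapAlgHom φ p) = mapAlgHom φ p
          simp [IsLocAt.down, Polynomial.aeval_X_left_apply]
      rw [e]
      exact congrArg CommaMorphism.left hB
    · rw [← Category.assoc, ← Category.assoc, ← specMap_comp]
      exact congrArg CommaMorphism.left h0
  obtain ⟨k, hik, heq⟩ := Scheme.exists_hom_comp_eq_comp_of_locallyOfFiniteType D t G.hom c hc a b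
    (Over.w q).symm (Over.w q').symm hab
  refine ⟨k.unop.down, fun c => ?_⟩
  have h1 : om (scale R (P := A) (r ^ k.unop.down)) ≫ q = om (scale R (P := A) (r ^ k.unop.down)) ≫ q' := by
    refine Over.OverMorphism.ext ?_
    exact heq
  have e : (scale R c).comp (scale R (r ^ k.unop.down)) = scale (P := A) R (r ^ k.unop.down * c) :=
    AlgHom.ext fun p => by rw [AlgHom.comp_apply, scale_scale, mul_comm]
  rw [← e, om_comp, Category.assoc, h1, Category.assoc]

/-- Normalised descents of points with cocycle condition. -/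
theorem exists_coc_scale {φ : A →ₐ[R] B} {φ'' : A'' →ₐ[R] B''} {r : R} (h'' : IsLocAt φ'' r)
    {i i' : A →ₐ[R] A''} {j j' : B →ₐ[R] B''} (hi : φ''.comp i = j.comp φ) (hi' : φ''.comp i' = j'.comp φ)
    (c : O R A'' ⟶ G) (q : O R A[X] ⟶ G) (hq : om (ev0 R A) ≫ q = 1)
    (hB : PolyCoc j j' (om φ'' ≫ c) (om (mapAlgHom φ) ≫ q)) :
    ∃ K : ℕ, ∀ t : R, PolyCoc i i' c (om (scale R (r ^ K * t)) ≫ q) := by
  have hm : (mapAlgHom φ'').comp (mapAlgHom i) = (mapAlgHom j).comp (mapAlgHom φ) := by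
    rw [Polynomial.mapAlgHom_comp, hi, Polynomial.mapAlgHom_comp]
  have hm' : (mapAlgHom φ'').comp (mapAlgHom i') = (mapAlgHom j').comp (mapAlgHom φ) := by
    rw [Polynomial.mapAlgHom_comp, hi', Polynomial.mapAlgHom_comp]
  let q' : O R A''[X] ⟶ G := (om (cst R A'') ≫ c) * (om (mapAlgHom i) ≫ q) * (om (cst R A'') ≫ c)⁻¹
  have e1 : om (mapAlgHom φ'') ≫ om (mapAlgHom i') ≫ q = om (mapAlgHom φ'') ≫ q' := by
    unfold PolyCoc CocAt at hB
    simp only [q', MonObj.comp_mul, GrpObj.comp_inv]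
    simp only [← Category.assoc, ← om_comp, hm, hm'] at hB ⊢
    rw [hB, map_comp_cst]
  have e0 : om (ev0 R A'') ≫ om (mapAlgHom i') ≫ q = om (ev0 R A'') ≫ q' := by
    simp only [q']
    rw [MonObj.comp_mul, MonObj.comp_mul, GrpObj.comp_inv, ← Category.assoc (om (ev0 R A'')) (om (mapAlgHom i')),
      ← Category.assoc (om (ev0 R A'')) (om (mapAlgHom i)), ← om_comp, ← om_comp, ev0_comp_map, ev0_comp_map,
      om_comp, om_comp, Category.assoc, Category.assoc, hq, MonObj.comp_one, MonObj.comp_one, _root_.mul_one,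
      mul_inv_cancel]
  obtain ⟨K, hK⟩ := exists_scale_eq h'' _ q' e1 e0
  refine ⟨K, fun t => ?_⟩
  have := hK t
  unfold PolyCoc CocAt
  rw [← Category.assoc, ← Category.assoc, ← om_comp, ← om_comp, ← scale_comp_map, ← scale_comp_map, om_comp,
    om_comp, Category.assoc, Category.assoc, this]
  simp only [q']
  rw [MonObj.comp_mul, MonObj.comp_mul, GrpObj.comp_inv,
    ← Category.assoc (om (scale R (r ^ K * t))) (om (cst R A'')), ← om_comp, scale_comp_cst]

/-- Scalings by multiples of a high power descend to points satisfying the condition. -/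
theorem exists_descend_mul_coc {φ : A →ₐ[R] B} {φ'' : A'' →ₐ[R] B''} {r : R} (h : IsLocAt φ r)
    (h'' : IsLocAt φ'' r) {i i' : A →ₐ[R] A''} {j j' : B →ₐ[R] B''} (hi : φ''.comp i = j.comp φ)
    (hi' : φ''.comp i' = j'.comp φ) (c : O R A'' ⟶ G) (g : O R B[X] ⟶ G) (hg : om (ev0 R B) ≫ g = 1)
    (hgc : PolyCoc j j' (om φ'' ≫ c) g) :
    ∃ N : ℕ, ∀ t : R, ∃ q : O R A[X] ⟶ G, PolyCoc i i' c q ∧
      om (mapAlgHom φ) ≫ q = om (scale R (r ^ N * t)) ≫ g := by
  obtain ⟨N, hN⟩ := exists_descend_mul h g hg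
  obtain ⟨q₀, hq₀, hq₀'⟩ := hN 1
  rw [_root_.mul_one] at hq₀'
  obtain ⟨K, hK⟩ := exists_coc_scale h'' hi hi' c q₀ hq₀ (by rw [hq₀']; exact hgc.scale _)
  refine ⟨N + K, fun t => ⟨_, hK t, ?_⟩⟩
  have e2 : (scale R (r ^ K * t)).comp (scale R (r ^ N)) = scale (P := B) R (r ^ (N + K) * t) :=
    AlgHom.ext fun p => by rw [AlgHom.comp_apply, scale_scale]; congr 2; ring
  rw [← Category.assoc, ← om_comp, ← scale_comp_map, om_comp, Category.assoc, hq₀', ← Category.assoc, ← om_comp, e2]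

/-- Differences of nearby scalings descend to points satisfying the condition. -/
theorem exists_descend_diff_coc {φ : A →ₐ[R] B} {φ'' : A'' →ₐ[R] B''} {r : R} (h : IsLocAt φ r)
    (h'' : IsLocAt φ'' r) {i i' : A →ₐ[R] A''} {j j' : B →ₐ[R] B''} (hi : φ''.comp i = j.comp φ)
    (hi' : φ''.comp i' = j'.comp φ) (c : O R A'' ⟶ G) (g : O R B[X] ⟶ G) (hg : om (ev0 R B) ≫ g = 1)
    (hgc : PolyCoc j j' (om φ'' ≫ c) g) :
    ∃ M : ℕ, ∀ cu cv : R, ∃ q : O R A[X] ⟶ G, PolyCoc i i' c q ∧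
      om (mapAlgHom φ) ≫ q = (om (scale R (cu + r ^ M * cv)) ≫ g) * (om (scale R cu) ≫ g)⁻¹ := by
  let d : O R B[X][X][X] ⟶ G := (om (lin R B 1) ≫ g) * (om (lin R B 0) ≫ g)⁻¹
  have hd : om (ev0 R B[X][X]) ≫ d = 1 := by
    rw [MonObj.comp_mul, GrpObj.comp_inv, ← Category.assoc, ← Category.assoc, ← om_comp, ← om_comp, ev0_lin,
      mul_inv_cancel]
  have hcst : ∀ s : R, (lin R B'' s).comp (cst R B'') = (cst R B''[X][X]).comp ((cst R B''[X]).comp (cst R B'')) :=
    fun s => by ext x; simp [lin, cst]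
  have hdc : PolyCoc (mapAlgHom (mapAlgHom j)) (mapAlgHom (mapAlgHom j'))
      (om (mapAlgHom (mapAlgHom φ'')) ≫ om (cst R A''[X]) ≫ om (cst R A'') ≫ c) d := by
    have hc : om (cst R B''[X][X]) ≫ om (mapAlgHom (mapAlgHom φ'')) ≫ om (cst R A''[X]) ≫ om (cst R A'') ≫ c =
        om (cst R B''[X][X]) ≫ om (cst R B''[X]) ≫ om (cst R B'') ≫ om φ'' ≫ c := by
      simp only [← Category.assoc, ← om_comp, ← AlgHom.comp_assoc, map_comp_cst]
      simp only [AlgHom.comp_assoc, map_comp_cst]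
    unfold PolyCoc
    rw [hc]
    refine CocAt.mul ?_ (CocAt.inv ?_) <;>
    · refine CocAt.comp (lin_map j _).symm (lin_map j' _).symm ?_ hgc
      simp only [← Category.assoc, ← om_comp]
      simp only [← AlgHom.comp_assoc, hcst]
  have h2 : IsLocAt (mapAlgHom (mapAlgHom φ)) r := h.poly.poly
  have h2'' : IsLocAt (mapAlgHom (mapAlgHom φ'')) r := h''.poly.poly
  have hm : ∀ {i : A →ₐ[R] A''} {j : B →ₐ[R] B''}, φ''.comp i = j.comp φ →
      (mapAlgHom (mapAlgHom φ'')).comp (mapAlgHom (mapAlgHom i)) =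
        (mapAlgHom (mapAlgHom j)).comp (mapAlgHom (mapAlgHom φ)) := fun e => by
    rw [Polynomial.mapAlgHom_comp, Polynomial.mapAlgHom_comp, e, Polynomial.mapAlgHom_comp,
      Polynomial.mapAlgHom_comp]
  obtain ⟨M, hM⟩ := exists_descend_mul_coc h2 h2'' (hm hi) (hm hi')
    (om (cst R A''[X]) ≫ om (cst R A'') ≫ c) d hd hdc
  obtain ⟨dA, hdA, hdA'⟩ := hM 1
  refine ⟨M, fun cu cv => ⟨om (spec R A cu cv) ≫ dA, ?_, ?_⟩⟩
  · refine CocAt.comp (spec_map i cu cv) (spec_map i' cu cv) ?_ hdA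
    have e : ((spec R A'' cu cv).comp (cst R A''[X][X])).comp ((cst R A''[X]).comp (cst R A'')) = cst R A'' := by
      ext x; simp [spec, cst]
    simp only [← Category.assoc, ← om_comp, ← AlgHom.comp_assoc] at e ⊢
    rw [e]
  · have key : om (mapAlgHom φ) ≫ om (spec R A cu cv) =
        om (spec R B cu cv) ≫ om (P := A[X][X][X]) (Q := B[X][X][X]) (mapAlgHom (mapAlgHom (mapAlgHom φ))) := by
      rw [← om_comp, ← om_comp, spec_map]
    rw [← Category.assoc, key, Category.assoc]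
    erw [hdA']
    rw [_root_.mul_one, MonObj.comp_mul, GrpObj.comp_inv, MonObj.comp_mul, GrpObj.comp_inv]
    simp only [← Category.assoc, ← om_comp]
    rw [← AlgHom.comp_assoc, ← AlgHom.comp_assoc]
    simp only [AlgHom.comp_assoc, scale_lin, spec_lin, _root_.mul_one, mul_zero, zero_mul, add_zero]

/-- Evaluation of the variable at the inverse of a unit. -/
def evInv (R P : Type u) [CommRing R] [CommRing P] [Algebra R P] {u : R} (hu : IsUnit (algebraMap R P u)) :
    P[X] →ₐ[R] P :=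
  (Polynomial.aeval (R := P) ((hu.unit⁻¹ : Pˣ) : P)).restrictScalars R

theorem evInv_map (φ : A →ₐ[R] B) {u : R} (hu : IsUnit (algebraMap R A u)) (hu' : IsUnit (algebraMap R B u)) :
    φ.comp (evInv R A hu) = (evInv R B hu').comp (mapAlgHom φ) := by
  refine polyHom_ext (fun a => ?_) ?_
  · simp [evInv]
  · have e : φ ((hu.unit⁻¹ : Aˣ) : A) = ((hu'.unit⁻¹ : Bˣ) : B) := by
      refine hu'.mul_left_cancel ?_
      rw [hu'.mul_val_inv, ← φ.commutes u, ← map_mul, hu.mul_val_inv, map_one]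
    simpa [evInv] using e

omit [LocallyOfFinitePresentation G.hom] in
theorem PolyCoc.evInv {i i' : A →ₐ[R] A''} {c : O R A'' ⟶ G} {g : O R A[X] ⟶ G} (h : PolyCoc i i' c g) {u : R}
    (hu : IsUnit (algebraMap R A u)) (hu'' : IsUnit (algebraMap R A'' u)) :
    CocAt i i' c (om (evInv R A hu) ≫ g) := by
  refine CocAt.comp (evInv_map i hu hu'').symm (evInv_map i' hu hu'').symm ?_ h
  have e : (TorsPatch28.evInv R A'' hu'').comp (cst R A'') = AlgHom.id R A'' := by
    ext x; simp [TorsPatch28.evInv, cst]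
  rw [← Category.assoc, ← om_comp, e, om_id, Category.id_comp]

/-- Evaluation of the variable at one. -/
def evOne (R P : Type u) [CommRing R] [CommRing P] [Algebra R P] : P[X] →ₐ[R] P :=
  (Polynomial.aeval (R := P) (1 : P)).restrictScalars R

theorem exists_pow_bezout {R : Type*} [CommRing R] (x y : R) (N M : ℕ) :
    ∃ a b : R, a * x ^ N + b * y ^ M = (x + y) ^ (N + M) := by
  have h : (x + y) ^ (N + M) ∈ Ideal.span ({x ^ N, y ^ M} : Set R) := by
    rw [add_pow]
    refine Ideal.sum_mem _ fun m hm => ?_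
    rcases le_or_gt N m with h | h
    · rw [← Nat.add_sub_cancel' h, pow_add]
      exact Ideal.mem_span_pair.2 ⟨x ^ (m - N) * y ^ (N + M - (N + (m - N))) * ((N + M).choose (N + (m - N))), 0, by ring⟩
    · have h' : M ≤ N + M - m := by omega
      rw [← Nat.add_sub_cancel' h', pow_add, show ∀ p q s : R, ∀ t : R, p * (q * s) * t = p * s * t * q from
        fun _ _ _ _ => by ring]
      exact Ideal.mul_mem_left _ _ (Ideal.subset_span (by simp))
  exact Ideal.mem_span_pair.1 h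

/-- Patching with cocycle condition. -/
theorem exists_patch_coc {A' C'' : Type u} [CommRing A'] [Algebra R A'] [CommRing C''] [Algebra R C'']
    {φ : A →ₐ[R] B} {φ' : A' →ₐ[R] B} {φ'' : A'' →ₐ[R] B''} {ψ'' : C'' →ₐ[R] B''} {r r' u : R}
    (hA : IsLocAt φ r') (hA' : IsLocAt φ' r) (hA'' : IsLocAt φ'' r') (hC'' : IsLocAt ψ'' r)
    {i i' : A →ₐ[R] A''} {k k' : A' →ₐ[R] C''} {j j' : B →ₐ[R] B''}
    (hi : φ''.comp i = j.comp φ) (hi' : φ''.comp i' = j'.comp φ)
    (hk : ψ''.comp k = j.comp φ') (hk' : ψ''.comp k' = j'.comp φ')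
    (c : O R A'' ⟶ G) (d : O R C'' ⟶ G) (hcd : om φ'' ≫ c = om ψ'' ≫ d)
    (huA : IsUnit (algebraMap R A u)) (huA' : IsUnit (algebraMap R A' u)) (huA'' : IsUnit (algebraMap R A'' u))
    (huC'' : IsUnit (algebraMap R C'' u))
    (hrr : u ∈ Ideal.span ({r, r'} : Set R))
    (g : O R B[X] ⟶ G) (hg : om (ev0 R B) ≫ g = 1) (hgc : PolyCoc j j' (om φ'' ≫ c) g) :
    ∃ (g₁ : O R A ⟶ G) (g₂ : O R A' ⟶ G), CocAt i i' c g₁ ∧ CocAt k k' d g₂ ∧
      om (evOne R B) ≫ g = (om φ ≫ g₁) * (om φ' ≫ g₂) := by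
  obtain ⟨N, hN⟩ := exists_descend_mul_coc hA' hC'' hk hk' d g hg (by rw [← hcd]; exact hgc)
  obtain ⟨M, hM⟩ := exists_descend_diff_coc hA hA'' hi hi' c g hg hgc
  obtain ⟨a₀, b₀, hab₀⟩ := Ideal.mem_span_pair.1 hrr
  obtain ⟨a, b, hab⟩ : ∃ a b : R, a * r ^ N + b * r' ^ M = u ^ (N + M) := by
    obtain ⟨a, b, hab⟩ := exists_pow_bezout (a₀ * r) (b₀ * r') N M
    exact ⟨a * a₀ ^ N, b * b₀ ^ M, by rw [← hab₀, ← hab]; ring⟩
  obtain ⟨q₂, h2, e2⟩ := hN a
  obtain ⟨q₁, h1, e1⟩ := hM (r ^ N * a) b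
  have huB : IsUnit (algebraMap R B (u ^ (N + M))) := by
    rw [← φ.commutes]; exact ((map_pow (algebraMap R A) u (N + M)).symm ▸ huA.pow _).map φ
  have hu1 : IsUnit (algebraMap R A (u ^ (N + M))) := by rw [map_pow]; exact huA.pow _
  have hu2 : IsUnit (algebraMap R A' (u ^ (N + M))) := by rw [map_pow]; exact huA'.pow _
  refine ⟨om (evInv R A hu1) ≫ q₁, om (evInv R A' hu2) ≫ q₂, h1.evInv _ (by rw [map_pow]; exact huA''.pow _),
    h2.evInv _ (by rw [map_pow]; exact huC''.pow _), ?_⟩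
  rw [← Category.assoc, ← om_comp, evInv_map φ hu1 huB, om_comp, Category.assoc, e1,
    ← Category.assoc (om φ'), ← om_comp, evInv_map φ' hu2 huB, om_comp, Category.assoc, e2,
    ← MonObj.comp_mul, inv_mul_cancel_right, show r ^ N * a + r' ^ M * b = u ^ (N + M) by rw [← hab]; ring,
    ← Category.assoc, ← om_comp]
  congr 2
  refine polyHom_ext (fun x => ?_) ?_
  · simp [evOne, evInv, scale]
  · simp [evOne, evInv, scale]

end Groth.Agent.TorsPatch28
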