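import Groth.Agent.TorsPatch28.Data
import Groth.Agent.TorsPatch28.Cocycle

/-!
# Quillen patching of contractions
-/

universe u

open CategoryTheory Limits AlgebraicGeometry MonoidalCategory CartesianMonoidalCategory MonObj Polynomial
open scoped TensorProduct

noncomputable section

set_option linter.style.haveILetI false

namespace Groth.Agent.TorsPatch28

open Groth.Agent.QuillenLib Groth.Agent.GrpSchLib.TopDescent

variable {R : Type u} [CommRing R] {n : Type u} {G : Over (Spec (CommRingCat.of R))} [GrpObj G] (D : Data n G)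
variable {P : Type u} [CommRing P] [Algebra R P] {L L₁ L₂ : Type u} [CommRing L] [CommRing L₁] [CommRing L₂]
  [Algebra R L] [Algebra R L₁] [Algebra R L₂]

/-- The first projection from the coordinates of the square of `P`. -/
abbrev d₁ (R : Type u) [CommRing R] (n P L : Type u) [CommRing P] [CommRing L] [Algebra R P] [Algebra R L] :
    Coord R n P L →ₐ[R] Coord R n (P ⊗[R] P) L :=
  coordMap Algebra.TensorProduct.includeLeft (AlgHom.id R L)

/-- The second projection from the coordinates of the square of `P`. -/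
abbrev d₂ (R : Type u) [CommRing R] (n P L : Type u) [CommRing P] [CommRing L] [Algebra R P] [Algebra R L] :
    Coord R n P L →ₐ[R] Coord R n (P ⊗[R] P) L :=
  coordMap Algebra.TensorProduct.includeRight (AlgHom.id R L)

theorem inP_coordMap {P' L' : Type u} [CommRing P'] [CommRing L'] [Algebra R P'] [Algebra R L'] (α : P →ₐ[R] P')
    (β : L →ₐ[R] L') : (coordMap (n := n) α β).comp (inP R n P L) = (inP R n P' L').comp α := by
  ext x; simp

theorem inL_coordMap {P' L' : Type u} [CommRing P'] [CommRing L'] [Algebra R P'] [Algebra R L'] (α : P →ₐ[R] P')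
    (β : L →ₐ[R] L') : (coordMap (n := n) α β).comp (inL R n P L) = (inL R n P' L').comp β := by
  ext x; simp

theorem inM_coordMap {P' L' : Type u} [CommRing P'] [CommRing L'] [Algebra R P'] [Algebra R L'] (α : P →ₐ[R] P')
    (β : L →ₐ[R] L') : (coordMap (n := n) α β).comp (inM R n P L) = inM R n P' L' := by
  ext i; simp

variable (p : O R P ⟶ D.X) (hp : p ≫ D.π = zPt R n _) (hP : HasLocSec Scheme.fpqcTopology (toUnit (O R P)))

theorem exists_transition (c : O R (P ⊗[R] P) ⟶ G)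
    (hc : D.smul c (om Algebra.TensorProduct.includeLeft ≫ p) = om Algebra.TensorProduct.includeRight ≫ p)
    (f : Fam D L) (q : O R (Coord R n P L) ⟶ G)
    (hq : CocAt (d₁ R n P L) (d₂ R n P L) (om (inP R n (P ⊗[R] P) L) ≫ c) q) (hp : p ≫ D.π = zPt R n _)
    (hP : HasLocSec Scheme.fpqcTopology (toUnit (O R P))) :
    ∃ f' : Fam D L, ∀ {W : Over (Spec (CommRingCat.of R))} (l : W ⟶ O R (Coord R n P L)) (x : W ⟶ D.X)
      (h : W ⟶ G), x ≫ D.π = l ≫ om (inM R n P L) →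
      D.smul h (l ≫ om (inP R n P L) ≫ p) = f.ap (l ≫ om (inL R n P L)) x →
      f'.ap (l ≫ om (inL R n P L)) x = D.smul (h * (l ≫ q)) (l ≫ om (inP R n P L) ≫ p) := by
  let W₀ := O R L ⊗ D.X
  let j := fst W₀ (O R P)
  have hj : HasLocSec Scheme.fpqcTopology j := hasLocSec_fst hP W₀
  let pv := snd W₀ (O R P) ≫ p
  obtain ⟨l, hl1, hl2, hl3⟩ := exists_lift_coord (n := n) (snd W₀ (O R P)) (j ≫ snd _ _ ≫ D.π) (j ≫ fst _ _)
  obtain ⟨h, hh⟩ := D.exists_smul (x := j ≫ f.F) (y := pv) (by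
    rw [Category.assoc, Category.assoc, f.zero, hp, comp_zPt, comp_zPt])
  let val := D.smul (h * (l ≫ q)) pv
  have key : ∀ {W : Over (Spec (CommRingCat.of R))} (w : W ⟶ W₀ ⊗ O R P) (l' : W ⟶ O R (Coord R n P L))
      (x : W ⟶ D.X) (h' : W ⟶ G), l' ≫ om (inP R n P L) = w ≫ snd _ _ →
      lift (l' ≫ om (inL R n P L)) x = w ≫ j → x ≫ D.π = l' ≫ om (inM R n P L) →
      D.smul h' (l' ≫ om (inP R n P L) ≫ p) = f.ap (l' ≫ om (inL R n P L)) x →
      w ≫ val = D.smul (h' * (l' ≫ q)) (l' ≫ om (inP R n P L) ≫ p) := by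
    intro W w l' x h' e1 e2 e3 e4
    have e5 : w ≫ l = l' := by
      refine hom_ext_coord ?_ ?_ ?_
      · rw [Category.assoc, hl1, e1]
      · rw [Category.assoc, hl2, ← Category.assoc w j, ← e2, lift_snd_assoc, e3]
      · rw [Category.assoc, hl3, ← Category.assoc w j, ← e2, lift_fst]
    have e6 : w ≫ pv = l' ≫ om (inP R n P L) ≫ p := by
      rw [← Category.assoc l', e1, Category.assoc]
    have e7 : w ≫ h = h' := by
      refine D.eq_of_smul_eq (x := l' ≫ om (inP R n P L) ≫ p) ?_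
      rw [← e6, ← D.comp_smul, hh, e6, e4, ← Category.assoc w j, ← e2]
      rfl
    rw [D.comp_smul, MonObj.comp_mul, reassoc_of% e5, e6, e7]
  obtain ⟨F', hF', -⟩ := hj.existsUnique_desc val fun T a b hab => by
    obtain ⟨vv, hv1, hv2⟩ := exists_lift_tensor (a ≫ snd W₀ (O R P)) (b ≫ snd W₀ (O R P))
    obtain ⟨m, hm1, hm2, hm3⟩ := exists_lift_coord (n := n) vv (a ≫ j ≫ snd _ _ ≫ D.π) (a ≫ j ≫ fst _ _)
    let x := a ≫ j ≫ snd _ _
    let m₁ := m ≫ om (d₁ R n P L)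
    let m₂ := m ≫ om (d₂ R n P L)
    have f1 : m₁ ≫ om (inP R n P L) = a ≫ snd _ _ := by
      rw [Category.assoc, ← om_comp, inP_coordMap, om_comp, reassoc_of% hm1, hv1]
    have f2 : m₂ ≫ om (inP R n P L) = b ≫ snd _ _ := by
      rw [Category.assoc, ← om_comp, inP_coordMap, om_comp, reassoc_of% hm1, hv2]
    have g1 : m₁ ≫ om (inM R n P L) = x ≫ D.π := by
      rw [Category.assoc, ← om_comp, inM_coordMap, hm2]; simp [x]
    have g2 : m₂ ≫ om (inM R n P L) = x ≫ D.π := by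
      rw [Category.assoc, ← om_comp, inM_coordMap, hm2]; simp [x]
    have t1 : m₁ ≫ om (inL R n P L) = a ≫ j ≫ fst _ _ := by
      rw [Category.assoc, ← om_comp, inL_coordMap, AlgHom.comp_id, hm3]
    have t2 : m₂ ≫ om (inL R n P L) = a ≫ j ≫ fst _ _ := by
      rw [Category.assoc, ← om_comp, inL_coordMap, AlgHom.comp_id, hm3]
    have l1 : lift (m₁ ≫ om (inL R n P L)) x = a ≫ j := by
      rw [t1]; refine CartesianMonoidalCategory.hom_ext _ _ ?_ ?_ <;> simp [x]
    have l2 : lift (m₂ ≫ om (inL R n P L)) x = b ≫ j := by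
      rw [t2, ← hab]; refine CartesianMonoidalCategory.hom_ext _ _ ?_ ?_ <;> simp [x]
    let c' := vv ≫ c
    have hc' : D.smul c' (m₁ ≫ om (inP R n P L) ≫ p) = m₂ ≫ om (inP R n P L) ≫ p := by
      have := congrArg (fun e => vv ≫ e) hc
      simp only [D.comp_smul, reassoc_of% hv1, reassoc_of% hv2] at this
      rwa [reassoc_of% f1, reassoc_of% f2]
    obtain ⟨h₂, hh₂⟩ := D.exists_smul (x := f.ap (m₂ ≫ om (inL R n P L)) x) (y := m₂ ≫ om (inP R n P L) ≫ p) (by
      simp only [Fam.ap_π, Category.assoc, hp, comp_zPt])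
    have hq' : m₂ ≫ q = c' * (m₁ ≫ q) * c'⁻¹ := by
      have := congrArg (fun e => m ≫ e) hq
      simp only [MonObj.comp_mul, GrpObj.comp_inv] at this
      simpa only [m₁, m₂, c', Category.assoc, reassoc_of% hm1] using this
    rw [key b m₂ x h₂ f2 l2 g2.symm hh₂,
      key a m₁ x (h₂ * c') f1 l1 g1.symm (by rw [D.mul_smul, hc', hh₂, t1, t2]),
      ← hc', ← D.mul_smul, hq']
    congr 1
    group
  refine ⟨⟨F', hj.hom_ext ?_, fun {W} t g x => ?_⟩, fun {W} l' x h' e3 e4 => ?_⟩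
  · rw [← Category.assoc, hF', D.smul_π, Category.assoc, hp, comp_zPt, comp_zPt]
  · have hw : HasLocSec Scheme.fpqcTopology (fst W (O R P)) := hasLocSec_fst hP W
    refine hw.hom_ext ?_
    let jw := fst W (O R P)
    let vw := snd W (O R P)
    obtain ⟨m, hm1, hm2, hm3⟩ := exists_lift_coord (n := n) vw (jw ≫ x ≫ D.π) (jw ≫ t)
    obtain ⟨h₁, hh₁⟩ := D.exists_smul (x := f.ap (jw ≫ t) (jw ≫ x)) (y := vw ≫ p) (by simp [hp, comp_zPt])
    have pw : m ≫ om (inP R n P L) ≫ p = vw ≫ p := by rw [← Category.assoc, hm1]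
    have hgen : ∀ (y : W ⊗ O R P ⟶ D.X) (hy : y ≫ D.π = jw ≫ x ≫ D.π) (h' : W ⊗ O R P ⟶ G),
        D.smul h' (vw ≫ p) = f.ap (jw ≫ t) y →
          lift (jw ≫ t) y ≫ F' = D.smul (h' * (m ≫ q)) (vw ≫ p) := by
      intro y hy h' hh'
      have := key (lift (lift (jw ≫ t) y) vw) m y h' (by rw [hm1, lift_snd]) (by rw [hm3, lift_fst])
        (by rw [hy, hm2]) (by rw [pw, hm3]; exact hh')
      rw [← hF', lift_fst_assoc, pw] at this
      exact this
    show jw ≫ lift t (D.smul g x) ≫ F' = jw ≫ D.smul g (lift t x ≫ F')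
    rw [comp_lift_assoc, D.comp_smul, D.comp_smul, comp_lift_assoc,
      hgen (jw ≫ x) (by rw [Category.assoc]) h₁ hh₁,
      hgen _ (by rw [D.smul_π, Category.assoc]) ((jw ≫ g) * h₁) (by rw [D.mul_smul, hh₁, f.ap_smul]),
      _root_.mul_assoc, D.mul_smul]
  · have := key (lift (lift (l' ≫ om (inL R n P L)) x) (l' ≫ om (inP R n P L))) l' x h' (by rw [lift_snd])
      (by rw [lift_fst]) e3 e4
    rw [← hF', lift_fst_assoc] at this
    exact this

theorem exists_patch_fam [LocallyOfFinitePresentation G.hom] {r₁ r₂ u : R}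
    [IsLocalization.Away (u * r₁) L₁] [IsLocalization.Away (u * r₂) L₂] [IsLocalization.Away (u * r₁ * r₂) L]
    (hu : u ∈ Ideal.span ({r₁, r₂} : Set R)) (φ₁ : L₁ →ₐ[R] L) (φ₂ : L₂ →ₐ[R] L)
    (f₁ : Fam D L₁) (f₂ : Fam D L₂) (p : O R P ⟶ D.X) (hp : p ≫ D.π = zPt R n _)
    (hP : HasLocSec Scheme.fpqcTopology (toUnit (O R P))) :
    ∃ (g₁ : Fam D L₁) (g₂ : Fam D L₂), ∀ {W : Over (Spec (CommRingCat.of R))} (t : W ⟶ O R L) (x : W ⟶ D.X),
      (g₁.res φ₁).ap t x = (g₂.res φ₂).ap t x := by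
  obtain ⟨f₁, n₁⟩ := f₁.exists_isNormal
  obtain ⟨f₂, n₂⟩ := f₂.exists_isNormal
  let i₁ : P →ₐ[R] P ⊗[R] P := Algebra.TensorProduct.includeLeft
  let i₂ : P →ₐ[R] P ⊗[R] P := Algebra.TensorProduct.includeRight
  obtain ⟨c, hc⟩ := D.exists_smul (x := om i₂ ≫ p) (y := om i₁ ≫ p) (by simp [hp, comp_zPt])
  let pB := om (inP R n P L) ≫ p
  let tB := om (inL R n P L)
  have hpB : pB ≫ D.π = zPt R n _ := by simp [pB, hp, comp_zPt]
  obtain ⟨x, hx, hx'⟩ := (f₁.res φ₁).exists_lift_pt tB (om (inM R n P L)) pB hpB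
  obtain ⟨g₀, hg₀⟩ := D.exists_smul (x := (f₂.res φ₂).ap tB x) (y := pB) (by rw [Fam.ap_π, hpB])
  let cB := om (inP R n (P ⊗[R] P) L) ≫ c
  -- the cocycle property
  have hcoc : CocAt (d₁ R n P L) (d₂ R n P L) cB g₀ := by
    have eP₁ : om (d₁ R n P L) ≫ pB = om (inP R n (P ⊗[R] P) L) ≫ om i₁ ≫ p := by
      simp only [pB, ← Category.assoc, ← om_comp, inP_coordMap]; rfl
    have eP₂ : om (d₂ R n P L) ≫ pB = om (inP R n (P ⊗[R] P) L) ≫ om i₂ ≫ p := by
      simp only [pB, ← Category.assoc, ← om_comp, inP_coordMap]; rfl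
    have hcB : D.smul cB (om (d₁ R n P L) ≫ pB) = om (d₂ R n P L) ≫ pB := by
      rw [eP₁, eP₂, ← D.comp_smul, hc]
    have et₁ : om (d₁ R n P L) ≫ tB = om (inL R n (P ⊗[R] P) L) := by
      simp only [tB, ← om_comp, inL_coordMap, AlgHom.comp_id]
    have et₂ : om (d₂ R n P L) ≫ tB = om (inL R n (P ⊗[R] P) L) := by
      simp only [tB, ← om_comp, inL_coordMap, AlgHom.comp_id]
    have ex : om (d₂ R n P L) ≫ x = D.smul cB (om (d₁ R n P L) ≫ x) := by
      refine (f₁.res φ₁).ap_inj (t := om (inL R n (P ⊗[R] P) L)) ?_ ?_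
      · simp only [D.smul_π, Category.assoc, hx, ← om_comp, inM_coordMap]
      · conv_lhs => rw [← et₂, ← Fam.comp_ap, hx']
        rw [Fam.ap_smul]
        conv_rhs => rw [← et₁, ← Fam.comp_ap, hx']
        exact hcB.symm
    refine D.eq_of_smul_eq (x := om (d₂ R n P L) ≫ pB) ?_
    calc D.smul (om (d₂ R n P L) ≫ g₀) (om (d₂ R n P L) ≫ pB)
        = om (d₂ R n P L) ≫ (f₂.res φ₂).ap tB x := by rw [← hg₀, D.comp_smul]
      _ = D.smul cB (D.smul (om (d₁ R n P L) ≫ g₀) (om (d₁ R n P L) ≫ pB)) := by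
          rw [Fam.comp_ap, et₂, ex, Fam.ap_smul, ← D.comp_smul, hg₀, Fam.comp_ap, et₁]
      _ = _ := by
          rw [← hcB, ← D.mul_smul, ← D.mul_smul]
          congr 1
          group
  -- the homotopy
  let g := om (homot R n P L) ≫ g₀
  have hg : om (ev0 R (Coord R n P L)) ≫ g = 1 := by
    rw [← Category.assoc, ← om_comp, ev0_homot]
    refine D.eq_of_smul_eq (x := pB) ?_
    have eP : om (zeroC R n P L) ≫ pB = pB := by
      simp only [pB, ← Category.assoc, ← om_comp]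
      congr 2
      ext y; simp [zeroC]
    have et : om (zeroC R n P L) ≫ tB = tB := by
      simp only [tB, ← om_comp]
      congr 1
      ext y; simp [zeroC]
    have hz : (om (zeroC R n P L) ≫ x) ≫ D.π = zPt R n _ := by
      rw [Category.assoc, hx]
      refine Over.OverMorphism.ext ?_
      rw [← om_comp]
      show Spec.map _ = Spec.map _ ≫ Spec.map _
      rw [← specMap_comp]
      congr 2
      refine MvPolynomial.ringHom_ext (fun a => ?_) (fun i => ?_)
      · simp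
      · simp [zeroC]
    have h1 : (f₁.res φ₁).ap tB (om (zeroC R n P L) ≫ x) = pB := by
      conv_rhs => rw [← eP, ← hx', Fam.comp_ap, et]
    rw [(n₁.res φ₁) tB _ hz] at h1
    calc D.smul (om (zeroC R n P L) ≫ g₀) pB = om (zeroC R n P L) ≫ (f₂.res φ₂).ap tB x := by
          rw [← hg₀, D.comp_smul, eP]
      _ = D.smul 1 pB := by rw [Fam.comp_ap, et, (n₂.res φ₂) tB _ hz, h1, D.one_smul]
  haveI : IsLocalization.Away ((u * r₂) * r₁) L := by rw [mul_right_comm]; infer_instance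
  have hA : ∀ (Q : Type u) [CommRing Q] [Algebra R Q],
      IsLocAt (coordMap (n := n) (AlgHom.id R Q) φ₁) r₂ := fun Q _ _ => isLocAt_coordMap (r := u * r₁) φ₁
  have hA' : ∀ (Q : Type u) [CommRing Q] [Algebra R Q],
      IsLocAt (coordMap (n := n) (AlgHom.id R Q) φ₂) r₁ := fun Q _ _ => isLocAt_coordMap (r := u * r₂) φ₂
  have unitL : ∀ {M : Type u} [CommRing M] [Algebra R M] (s : R) [IsLocalization.Away (u * s) M],
      IsUnit (algebraMap R M u) := fun {M} _ _ s _ => by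
    have h := IsLocalization.Away.algebraMap_isUnit (S := M) (u * s)
    rw [map_mul] at h
    exact isUnit_of_mul_isUnit_left h
  have unitC : ∀ (Q M : Type u) [CommRing Q] [Algebra R Q] [CommRing M] [Algebra R M],
      IsUnit (algebraMap R M u) → IsUnit (algebraMap R (Coord R n Q M) u) := fun Q M _ _ _ _ h => by
    rw [← (inL R n Q M).commutes]; exact h.map _
  have sq : ∀ {M : Type u} [CommRing M] [Algebra R M] (φ : M →ₐ[R] L) (i : P →ₐ[R] P ⊗[R] P),
      (coordMap (n := n) (AlgHom.id R (P ⊗[R] P)) φ).comp (coordMap i (AlgHom.id R M)) =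
        (coordMap i (AlgHom.id R L)).comp (coordMap (AlgHom.id R P) φ) := fun φ i => by
    refine coord_ext ?_ (fun k => ?_) ?_
    · ext y; simp
    · simp
    · ext y; simp
  have hc₁ : ∀ {M : Type u} [CommRing M] [Algebra R M] (φ : M →ₐ[R] L),
      om (coordMap (AlgHom.id R (P ⊗[R] P)) φ) ≫ om (inP R n (P ⊗[R] P) M) ≫ c = cB := fun φ => by
    simp only [cB, ← Category.assoc, ← om_comp, inP_coordMap, AlgHom.comp_id]
  have hgc : PolyCoc (d₁ R n P L) (d₂ R n P L)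
      (om (coordMap (AlgHom.id R (P ⊗[R] P)) φ₁) ≫ om (inP R n (P ⊗[R] P) L₁) ≫ c) g := by
    rw [hc₁]
    refine CocAt.comp (map_comp_homot _ _).symm (map_comp_homot _ _).symm ?_ hcoc
    simp only [cB, ← Category.assoc, ← om_comp]
    congr 2
    refine AlgHom.ext fun y => ?_
    simp [homot, cst]
  obtain ⟨q₁, q₂, hq₁, hq₂, hq⟩ := exists_patch_coc (G := G) (hA P) (hA' P) (hA (P ⊗[R] P)) (hA' (P ⊗[R] P))
    (sq φ₁ i₁) (sq φ₁ i₂) (sq φ₂ i₁) (sq φ₂ i₂) (om (inP R n (P ⊗[R] P) L₁) ≫ c)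
    (om (inP R n (P ⊗[R] P) L₂) ≫ c) ((hc₁ φ₁).trans (hc₁ φ₂).symm)
    (unitC P L₁ (unitL r₁)) (unitC P L₂ (unitL r₂)) (unitC _ L₁ (unitL r₁)) (unitC _ L₂ (unitL r₂)) hu g hg hgc
  have hg1 : om (evOne R (Coord R n P L)) ≫ g = g₀ := by
    rw [← Category.assoc, ← om_comp, show evOne R (Coord R n P L) = ev1 R _ from rfl, ev1_homot, om_id,
      Category.id_comp]
  rw [hg1] at hq
  obtain ⟨e₁, he₁⟩ := exists_transition D p c hc f₁ q₁ hq₁ hp hP
  obtain ⟨e₂, he₂⟩ := exists_transition D p c hc f₂ q₂⁻¹ hq₂.inv hp hP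
  refine ⟨e₁, e₂, fun {W} t y => ?_⟩
  refine (hasLocSec_fst hP W).hom_ext ?_
  let jw := fst W (O R P)
  obtain ⟨l, hl1, hl2, hl3⟩ := exists_lift_coord (n := n) (snd W (O R P)) (jw ≫ y ≫ D.π) (jw ≫ t)
  let l₁ := l ≫ om (coordMap (AlgHom.id R P) φ₁)
  let l₂ := l ≫ om (coordMap (AlgHom.id R P) φ₂)
  have eP : ∀ {M : Type u} [CommRing M] [Algebra R M] (φ : M →ₐ[R] L),
      (l ≫ om (coordMap (AlgHom.id R P) φ)) ≫ om (inP R n P M) ≫ p = l ≫ pB := fun φ => by
    simp only [pB, Category.assoc]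
    rw [← Category.assoc (om _) (om _), ← om_comp, inP_coordMap, AlgHom.comp_id]
  have eM : ∀ {M : Type u} [CommRing M] [Algebra R M] (φ : M →ₐ[R] L),
      (jw ≫ y) ≫ D.π = (l ≫ om (coordMap (AlgHom.id R P) φ)) ≫ om (inM R n P M) := fun φ => by
    simp only [Category.assoc, ← om_comp, inM_coordMap]
    exact hl2.symm
  have eL : ∀ {M : Type u} [CommRing M] [Algebra R M] (φ : M →ₐ[R] L),
      (l ≫ om (coordMap (AlgHom.id R P) φ)) ≫ om (inL R n P M) = (jw ≫ t) ≫ om φ := fun φ => by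
    simp only [Category.assoc, ← om_comp, inL_coordMap]
    rw [om_comp, ← Category.assoc, hl3, Category.assoc]
  obtain ⟨h, hh⟩ := D.exists_smul (x := (f₁.res φ₁).ap (jw ≫ t) (jw ≫ y)) (y := l ≫ pB) (by
    simp [hpB, comp_zPt])
  have hy : jw ≫ y = D.smul h (l ≫ x) := by
    refine (f₁.res φ₁).ap_inj (t := jw ≫ t) ?_ ?_
    · rw [D.smul_π, Category.assoc, Category.assoc, hx, hl2]
    · rw [Fam.ap_smul, ← hh, ← hl3, ← Fam.comp_ap, hx']
  have h₂ : D.smul (h * (l ≫ g₀)) (l ≫ pB) = (f₂.res φ₂).ap (jw ≫ t) (jw ≫ y) := by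
    rw [hy, Fam.ap_smul, ← hl3, ← Fam.comp_ap, ← hg₀, D.comp_smul, D.mul_smul]
  show jw ≫ _ = jw ≫ _
  rw [Fam.comp_ap, Fam.comp_ap, Fam.res_ap, Fam.res_ap, ← eL φ₁, ← eL φ₂,
    he₁ _ _ h (eM φ₁) (by rw [eP, eL, hh, Fam.res_ap]),
    he₂ _ _ (h * (l ≫ g₀)) (eM φ₂) (by rw [eP, eL, h₂, Fam.res_ap]), eP, eP]
  congr 1
  rw [hq, MonObj.comp_mul, GrpObj.comp_inv]
  simp only [Category.assoc]
  group

end Groth.Agent.TorsPatch28
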