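import Groth.Agent.TorsPatch28.Alg
import Groth.Agent.SchTorsor.Basic

/-!
# Torsors on a relative affine space in point language, and equivariant contractions to zero
-/

universe u

open CategoryTheory Limits AlgebraicGeometry MonoidalCategory CartesianMonoidalCategory MonObj Polynomial

noncomputable section

set_option linter.style.haveILetI false

namespace Groth.Agent.TorsPatch28

open Groth.Agent.QuillenLib Groth.Agent.GrpSchLib.TopDescent

section LocSec

variable {S : Scheme.{u}}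

theorem hasLocSec_pullback_fst {X A W : Over S} (π : X ⟶ A) (a : W ⟶ A)
    (h : HasLocSec Scheme.fpqcTopology π) : HasLocSec Scheme.fpqcTopology (pullback.fst a π) := by
  obtain ⟨Rs, hR, hsec⟩ := h
  refine ⟨Rs.pullback a.left, Scheme.fpqcTopology.pullback_stable _ hR, fun T c hc => ?_⟩
  obtain ⟨s, hs⟩ := hsec _ hc
  let T' : Over S := Over.mk (c ≫ W.hom)
  let c' : T' ⟶ W := Over.homMk c rfl
  let s' : T' ⟶ X := Over.homMk s (by
    show s ≫ X.hom = c ≫ W.hom
    rw [← Over.w π, ← Category.assoc, hs, Category.assoc, Over.w a])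
  refine ⟨(pullback.lift c' s' (Over.OverMorphism.ext hs.symm)).left, ?_⟩
  exact congrArg CommaMorphism.left (pullback.lift_fst c' s' (Over.OverMorphism.ext hs.symm))

theorem hasLocSec_fst {V : Over S} (h : HasLocSec Scheme.fpqcTopology (toUnit V)) (W : Over S) :
    HasLocSec Scheme.fpqcTopology (fst W V) := by
  obtain ⟨Rs, hR, hsec⟩ := h
  refine ⟨Rs.pullback W.hom, Scheme.fpqcTopology.pullback_stable _ hR, fun T c hc => ?_⟩
  obtain ⟨s, hs⟩ := hsec _ hc
  let T' : Over S := Over.mk (c ≫ W.hom)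
  let c' : T' ⟶ W := Over.homMk c rfl
  have hu : (toUnit V).left = V.hom := (Category.comp_id _).symm.trans (Over.w (toUnit V))
  let s' : T' ⟶ V := Over.homMk s (by
    show s ≫ V.hom = c ≫ W.hom
    rw [← hu]; exact hs)
  exact ⟨(lift c' s').left, congrArg CommaMorphism.left (lift_fst c' s')⟩

end LocSec

variable {R : Type u} [CommRing R] (n : Type u)

/-- The affine space over the base. -/
abbrev AffN (R : Type u) [CommRing R] (n : Type u) : Over (Spec (CommRingCat.of R)) := O R (MvPolynomial n R)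

/-- The zero section as a point. -/
def zPt (R : Type u) [CommRing R] (n : Type u) (W : Over (Spec (CommRingCat.of R))) : W ⟶ AffN R n :=
  Over.homMk (W.hom ≫ Spec.map (CommRingCat.ofHom
    (MvPolynomial.aeval (R := R) (S₁ := R) fun _ : n => (0 : R)).toRingHom)) (by
    show (W.hom ≫ Spec.map _) ≫ Spec.map _ = W.hom
    rw [Category.assoc, ← specMap_comp, AlgHom.toRingHom_eq_coe, AlgHom.comp_algebraMap]
    rw [Algebra.algebraMap_self, CommRingCat.ofHom_id, Spec.map_id, Category.comp_id])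

theorem comp_zPt {W W' : Over (Spec (CommRingCat.of R))} (f : W' ⟶ W) : f ≫ zPt R n W = zPt R n W' := by
  refine Over.OverMorphism.ext ?_
  show f.left ≫ W.hom ≫ Spec.map _ = W'.hom ≫ Spec.map _
  rw [← Category.assoc, Over.w f]

variable (G : Over (Spec (CommRingCat.of R))) [GrpObj G]

/-- A torsor on the affine space, in the category over the base. -/
structure Data where
  /-- The total space. -/
  X : Over (Spec (CommRingCat.of R))
  /-- The action. -/
  a : AlgGrp.Action G X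
  /-- The projection. -/
  π : X ⟶ AffN R n
  inv : a.act ≫ π = snd G X ≫ π
  exists_div : ∀ {W : Over (Spec (CommRingCat.of R))} (x y : W ⟶ X), x ≫ π = y ≫ π →
    ∃ g : W ⟶ G, lift g y ≫ a.act = x
  free : ∀ {W : Over (Spec (CommRingCat.of R))} (g h : W ⟶ G) (y : W ⟶ X),
    lift g y ≫ a.act = lift h y ≫ a.act → g = h
  locSec : HasLocSec Scheme.fpqcTopology π

variable {n G} (D : Data n G)

namespace Data

variable {W W' : Over (Spec (CommRingCat.of R))}

/-- The action on points. -/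
def smul (g : W ⟶ G) (x : W ⟶ D.X) : W ⟶ D.X := lift g x ≫ D.a.act

theorem comp_smul (f : W' ⟶ W) (g : W ⟶ G) (x : W ⟶ D.X) : f ≫ D.smul g x = D.smul (f ≫ g) (f ≫ x) := by
  rw [smul, smul, comp_lift_assoc]

@[simp] theorem one_smul (x : W ⟶ D.X) : D.smul 1 x = x := SchTorsor.one_act_pt D.a x

theorem mul_smul (g h : W ⟶ G) (x : W ⟶ D.X) : D.smul (g * h) x = D.smul g (D.smul h x) :=
  SchTorsor.act_assoc D.a g h x

@[simp] theorem smul_π (g : W ⟶ G) (x : W ⟶ D.X) : D.smul g x ≫ D.π = x ≫ D.π := by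
  rw [smul, Category.assoc, D.inv, lift_snd_assoc]

theorem eq_of_smul_eq {g h : W ⟶ G} {x : W ⟶ D.X} (e : D.smul g x = D.smul h x) : g = h := D.free g h x e

theorem exists_smul {x y : W ⟶ D.X} (e : x ≫ D.π = y ≫ D.π) : ∃ g : W ⟶ G, D.smul g y = x := D.exists_div x y e

end Data

/-- An equivariant contraction to the zero section over an algebra. -/
structure Fam (L : Type u) [CommRing L] [Algebra R L] where
  /-- The contraction. -/
  F : O R L ⊗ D.X ⟶ D.X
  zero : F ≫ D.π = zPt R n _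
  equiv : ∀ {W : Over (Spec (CommRingCat.of R))} (t : W ⟶ O R L) (g : W ⟶ G) (x : W ⟶ D.X),
    lift t (D.smul g x) ≫ F = D.smul g (lift t x ≫ F)

namespace Fam

variable {D} {L L' : Type u} [CommRing L] [Algebra R L] [CommRing L'] [Algebra R L']
variable {W W' : Over (Spec (CommRingCat.of R))}

/-- Evaluation at a point. -/
def ap (f : Fam D L) (t : W ⟶ O R L) (x : W ⟶ D.X) : W ⟶ D.X := lift t x ≫ f.F

theorem comp_ap (f : Fam D L) (j : W' ⟶ W) (t : W ⟶ O R L) (x : W ⟶ D.X) :
    j ≫ f.ap t x = f.ap (j ≫ t) (j ≫ x) := by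
  rw [ap, ap, comp_lift_assoc]

@[simp] theorem ap_π (f : Fam D L) (t : W ⟶ O R L) (x : W ⟶ D.X) : f.ap t x ≫ D.π = zPt R n W := by
  rw [ap, Category.assoc, f.zero, comp_zPt]

theorem ap_smul (f : Fam D L) (t : W ⟶ O R L) (g : W ⟶ G) (x : W ⟶ D.X) :
    f.ap t (D.smul g x) = D.smul g (f.ap t x) := f.equiv t g x

/-- Restriction along a map of algebras. -/
def res (f : Fam D L) (φ : L →ₐ[R] L') : Fam D L' where
  F := (om φ ▷ D.X) ≫ f.F
  zero := by rw [Category.assoc, f.zero, comp_zPt]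
  equiv t g x := by
    rw [lift_whiskerRight_assoc, lift_whiskerRight_assoc]
    exact f.equiv _ g x

@[simp] theorem res_ap (f : Fam D L) (φ : L →ₐ[R] L') (t : W ⟶ O R L') (x : W ⟶ D.X) :
    (f.res φ).ap t x = f.ap (t ≫ om φ) x := by
  simp only [ap, res, lift_whiskerRight_assoc]

/-- A contraction which fixes the fibre over zero. -/
def IsNormal (f : Fam D L) : Prop :=
  ∀ {W : Over (Spec (CommRingCat.of R))} (t : W ⟶ O R L) (x : W ⟶ D.X), x ≫ D.π = zPt R n W → f.ap t x = x

theorem IsNormal.res {f : Fam D L} (h : f.IsNormal) (φ : L →ₐ[R] L') : (f.res φ).IsNormal := fun t x hx => by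
  rw [res_ap]; exact h _ x hx

theorem exists_isNormal (f : Fam D L) : ∃ f' : Fam D L, f'.IsNormal := by
  let y : O R L ⊗ D.X ⟶ D.X := f.F
  obtain ⟨k, hk⟩ := D.exists_smul (x := f.ap (fst _ _) y) (y := y) (by rw [ap_π]; exact f.zero.symm)
  let F' : O R L ⊗ D.X ⟶ D.X := D.smul k⁻¹ y
  have key : ∀ {W : Over (Spec (CommRingCat.of R))} (t : W ⟶ O R L) (x : W ⟶ D.X) (k' : W ⟶ G),
      D.smul k' (f.ap t x) = f.ap t (f.ap t x) → lift t x ≫ F' = D.smul k'⁻¹ (f.ap t x) := by
    intro W t x k' hk'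
    have h1 := congrArg (fun m => lift t x ≫ m) hk
    simp only [D.comp_smul, comp_ap, lift_fst] at h1
    have h2 : lift t x ≫ y = f.ap t x := rfl
    rw [h2] at h1
    show lift t x ≫ D.smul k⁻¹ y = _
    rw [D.comp_smul, GrpObj.comp_inv, h2, D.eq_of_smul_eq (h1.trans hk'.symm)]
  refine ⟨⟨F', ?_, fun {W} t g x => ?_⟩, fun {W} t x hx => ?_⟩
  · show D.smul k⁻¹ y ≫ D.π = _
    rw [D.smul_π]; exact f.zero
  · obtain ⟨k', hk'⟩ := D.exists_smul (x := f.ap t (f.ap t x)) (y := f.ap t x) (by simp)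
    rw [key t x k' hk', key t (D.smul g x) (g * k' * g⁻¹) ?_]
    · rw [f.ap_smul, ← D.mul_smul, ← D.mul_smul]
      congr 1
      group
    · rw [f.ap_smul, f.ap_smul, ← hk', ← D.mul_smul, ← D.mul_smul]
      congr 1
      group
  · obtain ⟨k', hk'⟩ := D.exists_smul (x := f.ap t x) (y := x) (by rw [ap_π, hx])
    show lift t x ≫ F' = x
    have e : f.ap t (f.ap t x) = D.smul k' (f.ap t x) := by
      conv_lhs => rw [← hk', f.ap_smul]
    rw [key t x k' e.symm, ← hk', ← D.mul_smul, inv_mul_cancel, D.one_smul]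

theorem ap_inj (f : Fam D L) {t : W ⟶ O R L} {x x' : W ⟶ D.X} (hπ : x ≫ D.π = x' ≫ D.π)
    (h : f.ap t x = f.ap t x') : x = x' := by
  obtain ⟨k, rfl⟩ := D.exists_smul hπ
  rw [f.ap_smul] at h
  have hk : k = 1 := D.eq_of_smul_eq (h.trans (D.one_smul _).symm)
  rw [hk, D.one_smul]

theorem exists_lift_pt (f : Fam D L) (t : W ⟶ O R L) (a : W ⟶ AffN R n) (y : W ⟶ D.X)
    (hy : y ≫ D.π = zPt R n W) : ∃ x : W ⟶ D.X, x ≫ D.π = a ∧ f.ap t x = y := by
  let j := pullback.fst a D.π
  have hj : HasLocSec Scheme.fpqcTopology j := hasLocSec_pullback_fst D.π a D.locSec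
  let x' := pullback.snd a D.π
  have hx' : x' ≫ D.π = j ≫ a := pullback.condition.symm
  obtain ⟨k, hk⟩ := D.exists_smul (x := j ≫ y) (y := f.ap (j ≫ t) x') (by
    rw [ap_π, Category.assoc, hy, comp_zPt])
  obtain ⟨x, hx, -⟩ := hj.existsUnique_desc (D.smul k x') fun T p q hpq => by
    refine f.ap_inj (t := p ≫ j ≫ t) ?_ ?_
    · simp only [D.comp_smul, D.smul_π, Category.assoc, hx']
      rw [reassoc_of% hpq]
    · have e : ∀ p : T ⟶ _, f.ap (p ≫ j ≫ t) (p ≫ D.smul k x') = p ≫ j ≫ y := fun p => by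
        rw [← comp_ap, f.ap_smul, hk]
      rw [e p]
      rw [show p ≫ j ≫ t = q ≫ j ≫ t from by rw [reassoc_of% hpq], e q, reassoc_of% hpq]
  refine ⟨x, hj.hom_ext ?_, hj.hom_ext ?_⟩
  · rw [← Category.assoc, hx, D.smul_π, hx']
  · rw [comp_ap, hx, f.ap_smul, hk]

end Fam

end Groth.Agent.TorsPatch28
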