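import Groth.Agent.TorsPatch28.Core

/-!
# The locus over which a contraction exists is an ideal
-/

universe u

open CategoryTheory Limits AlgebraicGeometry MonoidalCategory CartesianMonoidalCategory MonObj Polynomial
open scoped TensorProduct

noncomputable section

set_option linter.style.haveILetI false

namespace Groth.Agent.TorsPatch28

open Groth.Agent.QuillenLib Groth.Agent.GrpSchLib.TopDescent

variable {R : Type u} [CommRing R]

/-- A point factors through the basic open. -/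
def InD (r : R) (W : Over (Spec (CommRingCat.of R))) : Prop :=
  Set.range W.hom ⊆ (PrimeSpectrum.basicOpen r : Set (PrimeSpectrum R))

theorem range_away (r : R) (L : Type u) [CommRing L] [Algebra R L] [IsLocalization.Away r L] :
    Set.range (Spec.map (CommRingCat.ofHom (algebraMap R L))) = (PrimeSpectrum.basicOpen r : Set (PrimeSpectrum R)) :=
  PrimeSpectrum.localization_away_comap_range L r

theorem inD_of_hom (r : R) {L : Type u} [CommRing L] [Algebra R L] [IsLocalization.Away r L]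
    {W : Over (Spec (CommRingCat.of R))} (t : W ⟶ O R L) : InD r W := by
  rintro _ ⟨x, rfl⟩
  rw [← range_away r L, ← Over.w t]
  exact ⟨t.left x, rfl⟩

theorem pt_ext (r : R) {L : Type u} [CommRing L] [Algebra R L] [IsLocalization.Away r L]
    {W : Over (Spec (CommRingCat.of R))} (t t' : W ⟶ O R L) : t = t' := by
  haveI : IsOpenImmersion (O R L).hom := IsOpenImmersion.of_isLocalization r
  refine Over.OverMorphism.ext ?_
  rw [← cancel_mono (O R L).hom, Over.w, Over.w]

theorem exists_pt (r : R) (L : Type u) [CommRing L] [Algebra R L] [IsLocalization.Away r L]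
    {W : Over (Spec (CommRingCat.of R))} (h : InD r W) : Nonempty (W ⟶ O R L) := by
  haveI : IsOpenImmersion (O R L).hom := IsOpenImmersion.of_isLocalization r
  have hr : Set.range W.hom ⊆ Set.range (O R L).hom := by
    show _ ⊆ Set.range (Spec.map _)
    rw [range_away r L]; exact h
  exact ⟨Over.homMk (IsOpenImmersion.lift (O R L).hom W.hom hr) (IsOpenImmersion.lift_fac _ _ _)⟩

theorem exists_algHom {r s : R} (c : R) (h : s = r * c) (L M : Type u) [CommRing L] [Algebra R L] [CommRing M]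
    [Algebra R M] [IsLocalization.Away r L] [IsLocalization.Away s M] : Nonempty (L →ₐ[R] M) := by
  have hu : IsUnit (algebraMap R M r) := by
    have := IsLocalization.Away.algebraMap_isUnit (S := M) s
    rw [h, map_mul] at this
    exact isUnit_of_mul_isUnit_left this
  exact ⟨⟨IsLocalization.Away.lift r hu, fun a => IsLocalization.Away.lift_eq r hu a⟩⟩

theorem exists_zariski_cover {P : Type u} [CommRing P] [Algebra R P] {X : Over (Spec (CommRingCat.of R))}
    (r₁ r₂ : R) {u : R} (hu : u ∈ Ideal.span ({r₁, r₂} : Set R)) (h : InD u X) :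
    ∀ x : X.left, X.hom x ∈ (PrimeSpectrum.basicOpen (u * r₁) : Set (PrimeSpectrum R)) ∨
      X.hom x ∈ (PrimeSpectrum.basicOpen (u * r₂) : Set (PrimeSpectrum R)) := by
  intro x
  have hx : u ∉ (X.hom x).asIdeal := h ⟨x, rfl⟩
  by_cases h1 : r₁ ∈ (X.hom x).asIdeal
  · refine Or.inr fun h2 => ?_
    rcases (X.hom x).isPrime.mem_or_mem h2 with h2 | h2
    · exact hx h2
    · refine hx (Ideal.span_le.2 ?_ hu)
      rintro z (rfl | rfl)
      · exact h1
      · exact h2
  · refine Or.inl fun h2 => ?_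
    rcases (X.hom x).isPrime.mem_or_mem h2 with h2 | h2
    · exact hx h2
    · exact h1 h2

variable {n : Type u} {G : Over (Spec (CommRingCat.of R))} [GrpObj G] {D : Data n G}

theorem exists_glue {r₁ r₂ u : R} (hu : u ∈ Ideal.span ({r₁, r₂} : Set R)) {L₀ L₁ L₂ L : Type u} [CommRing L₀]
    [CommRing L₁] [CommRing L₂] [CommRing L] [Algebra R L₀] [Algebra R L₁] [Algebra R L₂] [Algebra R L]
    [IsLocalization.Away u L₀] [IsLocalization.Away (u * r₁) L₁] [IsLocalization.Away (u * r₂) L₂]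
    [IsLocalization.Away (u * r₁ * r₂) L] (φ₁ : L₁ →ₐ[R] L) (φ₂ : L₂ →ₐ[R] L) (f₁ : Fam D L₁) (f₂ : Fam D L₂)
    (hf : ∀ {W : Over (Spec (CommRingCat.of R))} (t : W ⟶ O R L) (x : W ⟶ D.X),
      (f₁.res φ₁).ap t x = (f₂.res φ₂).ap t x) : Nonempty (Fam D L₀) := by
  classical
  let Y := O R L₀ ⊗ D.X
  have hY : InD u Y := inD_of_hom (L := L₀) u (fst _ _)
  -- compatibility at any point
  have comm : ∀ {W : Over (Spec (CommRingCat.of R))} (t₁ : W ⟶ O R L₁) (t₂ : W ⟶ O R L₂) (x : W ⟶ D.X),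
      f₁.ap t₁ x = f₂.ap t₂ x := by
    intro W t₁ t₂ x
    have h : InD (u * r₁ * r₂) W := by
      intro z hz
      have h1 := inD_of_hom (u * r₁) t₁ hz
      have h2 := inD_of_hom (u * r₂) t₂ hz
      intro h3
      rcases z.isPrime.mem_or_mem h3 with h3 | h3
      · exact h1 h3
      · exact h2 (Ideal.mul_mem_left _ _ h3)
    obtain ⟨t⟩ := exists_pt (u * r₁ * r₂) L h
    have := hf t x
    rwa [Fam.res_ap, Fam.res_ap, pt_ext (u * r₁) (t ≫ om φ₁) t₁, pt_ext (u * r₂) (t ≫ om φ₂) t₂] at this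
  let U : Bool → Y.left.Opens := fun b =>
    Y.hom ⁻¹ᵁ (PrimeSpectrum.basicOpen (if b then u * r₁ else u * r₂) : (Spec (CommRingCat.of R)).Opens)
  let Wb : Bool → Over (Spec (CommRingCat.of R)) := fun b => Over.mk ((U b).ι ≫ Y.hom)
  let ib : ∀ b, Wb b ⟶ Y := fun b => Over.homMk (U b).ι rfl
  have hW : ∀ b, InD (if b then u * r₁ else u * r₂) (Wb b) := by
    rintro b _ ⟨z, rfl⟩
    exact z.2
  obtain ⟨t₁⟩ := exists_pt (u * r₁) L₁ (W := Wb true) (hW true)
  obtain ⟨t₂⟩ := exists_pt (u * r₂) L₂ (W := Wb false) (hW false)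
  let fb : ∀ b, Wb b ⟶ D.X
    | true => f₁.ap t₁ (ib true ≫ snd _ _)
    | false => f₂.ap t₂ (ib false ≫ snd _ _)
  have hcov : TopologicalSpace.IsOpenCover U := by
    refine TopologicalSpace.IsOpenCover.mk (eq_top_iff.2 fun y _ => ?_)
    rw [TopologicalSpace.Opens.mem_iSup]
    rcases exists_zariski_cover (P := L₀) r₁ r₂ hu hY y with h | h
    · exact ⟨true, h⟩
    · exact ⟨false, h⟩
  let 𝒰 := Y.left.openCoverOfIsOpenCover U hcov
  have key : ∀ b c {W : Over (Spec (CommRingCat.of R))} (p : W ⟶ Wb b) (q : W ⟶ Wb c),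
      p ≫ ib b = q ≫ ib c → p ≫ fb b = q ≫ fb c := by
    rintro (_ | _) (_ | _) W p q e <;>
      simp only [fb, Fam.comp_ap, reassoc_of% e]
    · rw [pt_ext (u * r₂) (p ≫ t₂) (q ≫ t₂)]
    · rw [← comm (q ≫ t₁) (p ≫ t₂)]
    · rw [comm (p ≫ t₁) (q ≫ t₂)]
    · rw [pt_ext (u * r₁) (p ≫ t₁) (q ≫ t₁)]
  let m : Y.left ⟶ D.X.left := 𝒰.glueMorphisms (fun b => (fb b).left) fun b c => by
    let W : Over (Spec (CommRingCat.of R)) := Over.mk (pullback.fst (U b).ι (U c).ι ≫ (U b).ι ≫ Y.hom)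
    let p : W ⟶ Wb b := Over.homMk (pullback.fst (U b).ι (U c).ι) rfl
    let q : W ⟶ Wb c := Over.homMk (pullback.snd (U b).ι (U c).ι) (by
      show pullback.snd _ _ ≫ (U c).ι ≫ Y.hom = pullback.fst _ _ ≫ (U b).ι ≫ Y.hom
      rw [pullback.condition_assoc])
    exact congrArg CommaMorphism.left (key b c p q (Over.OverMorphism.ext pullback.condition))
  have hm : ∀ b, (U b).ι ≫ m = (fb b).left := fun b => 𝒰.ι_glueMorphisms _ _ b
  let F : Y ⟶ D.X := Over.homMk m (𝒰.hom_ext _ _ fun b => by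
    show (U b).ι ≫ m ≫ D.X.hom = (U b).ι ≫ Y.hom
    rw [← Category.assoc, hm, Over.w (fb b)]
    rfl)
  have hF : ∀ b, ib b ≫ F = fb b := fun b => Over.OverMorphism.ext (hm b)
  have hFw : ∀ {W : Over (Spec (CommRingCat.of R))} (t : W ⟶ O R L₀) (x : W ⟶ D.X) (b : Bool),
      InD (if b then u * r₁ else u * r₂) W → ∃ w : W ⟶ Wb b, w ≫ ib b = lift t x := by
    intro W t x b hb
    have hr : Set.range (lift t x).left ⊆ Set.range (U b).ι := by
      rw [Scheme.Opens.range_ι]
      rintro _ ⟨z, rfl⟩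
      show Y.hom ((lift t x).left z) ∈ (PrimeSpectrum.basicOpen (if b then u * r₁ else u * r₂) :
        (Spec (CommRingCat.of R)).Opens)
      rw [← Scheme.Hom.comp_apply, Over.w (lift t x)]
      exact hb ⟨z, rfl⟩
    refine ⟨Over.homMk (IsOpenImmersion.lift (U b).ι (lift t x).left hr) ?_,
      Over.OverMorphism.ext (IsOpenImmersion.lift_fac _ _ _)⟩
    show _ ≫ (U b).ι ≫ Y.hom = W.hom
    rw [← Category.assoc, IsOpenImmersion.lift_fac, Over.w (lift t x)]
  refine ⟨⟨F, ?_, fun {W} t g x => ?_⟩⟩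
  · refine Over.OverMorphism.ext (𝒰.hom_ext _ _ fun b => ?_)
    have : ib b ≫ F ≫ D.π = ib b ≫ zPt R n Y := by
      rw [← Category.assoc, hF, comp_zPt]
      cases b <;> simp [fb]
    exact congrArg CommaMorphism.left this
  · have hWu : InD u W := inD_of_hom (L := L₀) u t
    let V : Bool → W.left.Opens := fun b =>
      W.hom ⁻¹ᵁ (PrimeSpectrum.basicOpen (if b then u * r₁ else u * r₂) : (Spec (CommRingCat.of R)).Opens)
    have hV : TopologicalSpace.IsOpenCover V := by
      refine TopologicalSpace.IsOpenCover.mk (eq_top_iff.2 fun y _ => ?_)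
      rw [TopologicalSpace.Opens.mem_iSup]
      rcases exists_zariski_cover (P := L₀) r₁ r₂ hu hWu y with h | h
      · exact ⟨true, h⟩
      · exact ⟨false, h⟩
    refine Over.OverMorphism.ext ((W.left.openCoverOfIsOpenCover V hV).hom_ext _ _ fun b => ?_)
    change Bool at b
    let W' : Over (Spec (CommRingCat.of R)) := Over.mk ((V b).ι ≫ W.hom)
    let i : W' ⟶ W := Over.homMk (V b).ι rfl
    have hb : InD (if b then u * r₁ else u * r₂) W' := by
      rintro _ ⟨z, rfl⟩
      exact z.2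
    suffices h : i ≫ lift t (D.smul g x) ≫ F = i ≫ D.smul g (lift t x ≫ F) from congrArg CommaMorphism.left h
    rw [comp_lift_assoc, D.comp_smul, D.comp_smul, comp_lift_assoc]
    obtain ⟨w₁, hw₁⟩ := hFw (i ≫ t) (D.smul (i ≫ g) (i ≫ x)) b hb
    obtain ⟨w₂, hw₂⟩ := hFw (i ≫ t) (i ≫ x) b hb
    rw [← hw₁, ← hw₂, Category.assoc, Category.assoc, hF]
    have s1 : w₁ ≫ ib b ≫ snd _ _ = D.smul (i ≫ g) (i ≫ x) := by rw [reassoc_of% hw₁, lift_snd]
    have s2 : w₂ ≫ ib b ≫ snd _ _ = i ≫ x := by rw [reassoc_of% hw₂, lift_snd]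
    cases b <;> simp only [fb, Fam.comp_ap, s1, s2, Fam.ap_smul]
    · rw [pt_ext (u * r₂) (w₁ ≫ t₂) (w₂ ≫ t₂)]
    · rw [pt_ext (u * r₁) (w₁ ≫ t₁) (w₂ ≫ t₁)]

/-- The contraction exists over `r`. -/
def Desc (D : Data n G) (r : R) : Prop := Nonempty (Fam D (Localization.Away r))

theorem Desc.mul {r : R} (h : Desc D r) (c : R) : Desc D (r * c) := by
  obtain ⟨f⟩ := h
  obtain ⟨φ⟩ := exists_algHom (r := r) c rfl (Localization.Away r) (Localization.Away (r * c))
  exact ⟨f.res φ⟩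

theorem desc_zero : Desc D (0 : R) := by
  let Y := O R (Localization.Away (0 : R)) ⊗ D.X
  have he : IsEmpty Y.left := ⟨fun y => by
    have := inD_of_hom (0 : R) (L := Localization.Away (0 : R)) (fst _ _ : Y ⟶ _) ⟨y, rfl⟩
    exact this (Submodule.zero_mem _)⟩
  let hI : IsInitial Y.left := isInitialOfIsEmpty
  refine ⟨⟨Over.homMk (hI.to _) (hI.hom_ext _ _), Over.OverMorphism.ext (hI.hom_ext _ _), fun {W} t g x => ?_⟩⟩
  have : IsEmpty W.left := ⟨fun y => inD_of_hom (0 : R) t ⟨y, rfl⟩ (Submodule.zero_mem _)⟩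
  exact Over.OverMorphism.ext ((isInitialOfIsEmpty (X := W.left)).hom_ext _ _)

theorem Desc.add [LocallyOfFinitePresentation G.hom] {P : Type u} [CommRing P] [Algebra R P] (p : O R P ⟶ D.X)
    (hp : p ≫ D.π = zPt R n _) (hP : HasLocSec Scheme.fpqcTopology (toUnit (O R P))) {r₁ r₂ u : R}
    (h₁ : Desc D r₁) (h₂ : Desc D r₂) (hu : u ∈ Ideal.span ({r₁, r₂} : Set R)) : Desc D u := by
  obtain ⟨f₁⟩ := mul_comm r₁ u ▸ h₁.mul u
  obtain ⟨f₂⟩ := mul_comm r₂ u ▸ h₂.mul u
  let L := Localization.Away (u * r₁ * r₂)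
  obtain ⟨φ₁⟩ := exists_algHom (r := u * r₁) r₂ rfl (Localization.Away (u * r₁)) L
  obtain ⟨φ₂⟩ := exists_algHom (r := u * r₂) (s := u * r₁ * r₂) r₁ (by ring) (Localization.Away (u * r₂)) L
  obtain ⟨g₁, g₂, hg⟩ := exists_patch_fam D hu φ₁ φ₂ f₁ f₂ p hp hP
  exact exists_glue hu φ₁ φ₂ g₁ g₂ hg

/-- The ideal of elements over which a contraction exists. -/
theorem exists_ideal_desc [LocallyOfFinitePresentation G.hom] {P : Type u} [CommRing P] [Algebra R P]
    (p : O R P ⟶ D.X) (hp : p ≫ D.π = zPt R n _) (hP : HasLocSec Scheme.fpqcTopology (toUnit (O R P))) :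
    ∃ I : Ideal R, ∀ r : R, r ∈ I ↔ Desc D r :=
  ⟨{  carrier := {r | Desc D r}
      add_mem' := fun {a b} ha hb => ha.add p hp hP hb
        (Ideal.add_mem _ (Ideal.subset_span (by simp)) (Ideal.subset_span (by simp)))
      zero_mem' := desc_zero
      smul_mem' := fun c {a} ha => by
        show Desc D (c • a)
        rw [smul_eq_mul, mul_comm]; exact ha.mul c }, fun _ => Iff.rfl⟩

end Groth.Agent.TorsPatch28
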